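import Groth.Agent.ImgTorusLib.Field
import Groth.Agent.MultHomLib.Global
import Groth.Agent.DescHomLib.MultBC
import Groth.Agent.MultExtLib.Rigid
import Groth.Prelude.Def_ActBC

/-!
# The character map of a homomorphism from a diagonalisable group at a point

A group of multiplicative type is diagonalised over some field valued point; homomorphisms into it from a diagonalisable
group over a connected base are detected by the induced map of characters there.
-/

set_option autoImplicit false
set_option linter.style.haveILetI false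
set_option linter.unusedSectionVars false
set_option backward.isDefEq.respectTransparency false
set_option maxHeartbeats 1000000
set_option synthInstance.maxHeartbeats 400000

noncomputable section

universe u

open CategoryTheory CategoryTheory.Limits MonoidalCategory CartesianMonoidalCategory AlgebraicGeometry CoactBr
open scoped MonObj

attribute [-instance] CategoryTheory.Hom.commGroup

namespace Groth.Agent.SplitSub

open MultSubLib (chars dd)

attribute [local instance] CoactBr.braidedAlgSpecOf

variable {S : Scheme.{u}}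

/-- The base change of a diagonalisable group. -/
def bcDS {T : Scheme.{u}} (κ : T ⟶ S) (N : Type) [AddCommGroup N] : Red.bc κ (Red.DS S N) ≅ Red.DS T N :=
  ActBC.bcCompIso κ _ _ (specULiftZIsTerminal.hom_ext _ _)

instance isMonHom_bcDS {T : Scheme.{u}} (κ : T ⟶ S) (N : Type) [AddCommGroup N] : IsMonHom (bcDS κ N).hom :=
  ActBC.bcCompIso_isMonHom _ _ _

theorem bc_map_dd {T : Scheme.{u}} (κ : T ⟶ S) {N N' : Type} [AddCommGroup N] [AddCommGroup N']
    (g : Multiplicative N →* Multiplicative N') :
    (bcDS κ N').inv ≫ (Over.pullback κ).map (dd S g) = dd T g ≫ (bcDS κ N).inv := by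
  rw [Iso.inv_comp_eq, ← Category.assoc, Iso.eq_comp_inv, ImgTorus.dd_eq_map, ImgTorus.dd_eq_map]
  exact ActBC.bcCompIso_hom_naturality _ _ _ _

theorem dd_mul {N N' : Type} [AddCommGroup N] [AddCommGroup N'] (f g : Multiplicative N →* Multiplicative N') :
    dd S (f * g) = dd S f * dd S g := by
  refine MultSubLib.chars_injective ?_
  rw [MultSubLib.chars_mul, dd, dd, dd, MultSubLib.chars_dsPt, MultSubLib.chars_dsPt, MultSubLib.chars_dsPt,
    MonoidHom.comp_mul]

theorem dd_one {N N' : Type} [AddCommGroup N] [AddCommGroup N'] :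
    dd S (1 : Multiplicative N →* Multiplicative N') = 1 := by
  refine MultSubLib.chars_injective ?_
  rw [MultSubLib.chars_one, dd, MultSubLib.chars_dsPt, MonoidHom.comp_one]

theorem dd_inj [Nonempty S] {N N' : Type} [AddCommGroup N] [AddCommGroup N'] {f g : Multiplicative N →* Multiplicative N'}
    (h : dd S f = dd S g) : f = g := by
  haveI : Nonempty (𝟙_ (Over S)).left := ‹Nonempty S›
  exact MultSubLib.dd_injective (T := 𝟙_ (Over S)) (congrArg (fst _ _ ≫ ·) h)

/-- Over a field every homomorphism of diagonalisable groups is dual to a map of characters. -/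
theorem exists_eq_dd {K : Type u} [Field K] {N M : Type} [AddCommGroup N] [AddCommGroup M] [AddGroup.FG M]
    (v : Red.DS (Spec (CommRingCat.of K)) N ⟶ Red.DS (Spec (CommRingCat.of K)) M) [IsMonHom v] :
    ∃ ψ : Multiplicative M →* Multiplicative N, v = dd _ ψ := by
  haveI : Subsingleton ↥(Spec (CommRingCat.of K)) := inferInstanceAs (Subsingleton (PrimeSpectrum K))
  let Tpt : Over (Spec (CommRingCat.of K)) := 𝟙_ (Over (Spec (CommRingCat.of K)))
  obtain ⟨U, j, hj, hz, ψ, hψ⟩ := MultSubLib.exists_open_dd (T := Tpt) (fst _ _ ≫ v)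
    (fun Y g₁ g₂ t => by simp only [lift_fst_assoc, MonObj.mul_comp]) (IsLocalRing.closedPoint K)
  haveI := hj
  haveI : Surjective j.left := ⟨fun t => by
    obtain ⟨x, hx⟩ := hz
    haveI : Subsingleton Tpt.left := inferInstanceAs (Subsingleton ↥(Spec (CommRingCat.of K)))
    exact ⟨x, hx.trans (Subsingleton.elim _ _)⟩⟩
  haveI : IsIso j.left := by
    haveI : Epi j.left.base := (TopCat.epi_iff_surjective _).2 j.left.surjective
    exact IsOpenImmersion.isIso j.left
  haveI : IsIso ((Over.forget _).map j) := ‹IsIso j.left›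
  haveI : IsIso j := isIso_of_reflects_iso j (Over.forget _)
  refine ⟨ψ, ?_⟩
  have h := congrArg (lift (𝟙 (Red.DS (Spec (CommRingCat.of K)) N))
    (toUnit (Red.DS (Spec (CommRingCat.of K)) N) ≫ inv j) ≫ ·) hψ
  simpa only [Category.assoc, lift_whiskerLeft_assoc, lift_fst_assoc, Category.id_comp, IsIso.inv_hom_id,
    Category.comp_id] using h

/-- A field valued point over which the group is diagonalised. -/
structure Chart (G : Over S) [GrpObj G] where
  K : Type u
  [field : Field K]
  κ : Spec (CommRingCat.of K) ⟶ S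
  M : Type
  [grp : AddCommGroup M]
  [fg : AddGroup.FG M]
  e : Red.bc κ G ≅ Red.DS (Spec (CommRingCat.of K)) M
  hom : IsMonHom e.hom

attribute [instance] Chart.field Chart.grp Chart.fg

variable {G : Over S} [GrpObj G]

instance Chart.isMonHom_e (C : Chart G) : IsMonHom C.e.hom := C.hom

theorem nonempty_chart (hG : SGA3x.IsMultTypeFT G) [Nonempty S] : Nonempty (Chart G) := by
  obtain ⟨S', f, -, hsurj, -, hloc⟩ := hG
  obtain ⟨s'⟩ : Nonempty S' := by
    obtain ⟨s⟩ := ‹Nonempty S›
    obtain ⟨z, -⟩ := f.surjective s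
    exact ⟨z⟩
  obtain ⟨U, hU, M, hM, hfg, ⟨e⟩⟩ := hloc s'
  let K : Type u := ((U : Scheme.{u}).residueField ⟨s', hU⟩ : CommRingCat.{u})
  let l : Spec (CommRingCat.of K) ⟶ (U : Scheme.{u}) := (U : Scheme.{u}).fromSpecResidueField ⟨s', hU⟩
  let κ : Spec (CommRingCat.of K) ⟶ S := l ≫ U.ι ≫ f
  obtain ⟨E⟩ := DescHom.nonempty_iso_bc e κ (𝟙 _) l (by rw [Category.id_comp])
  let a : Red.bc (𝟙 _) (Red.bc κ G) ≅ Red.bc κ G := ActBC.bcCompIso (𝟙 _) κ G (Category.id_comp _)
  haveI : IsMonHom a.hom := ActBC.bcCompIso_isMonHom _ _ _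
  let E₁ : Red.bc (𝟙 _) (Red.bc κ G) ≅ Red.DS (Spec (CommRingCat.of K)) M := (Grp.forget _).mapIso E
  haveI : IsMonHom E₁.hom := E.hom.hom.isMonHom_hom
  exact ⟨{ K := K, κ := κ, M := M, e := a.symm ≪≫ E₁,
           hom := inferInstanceAs (IsMonHom (a.inv ≫ E₁.hom)) }⟩

variable (C : Chart G) {N N' : Type} [AddCommGroup N] [AddCommGroup N']

/-- A homomorphism read at the point. -/
def res (v : Red.DS S N ⟶ G) :
    Red.DS (Spec (CommRingCat.of C.K)) N ⟶ Red.DS (Spec (CommRingCat.of C.K)) C.M :=
  (bcDS C.κ N).inv ≫ (Over.pullback C.κ).map v ≫ C.e.hom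

instance isMonHom_res (v : Red.DS S N ⟶ G) [IsMonHom v] : IsMonHom (res C v) := by
  haveI : IsMonHom (M := Red.bc C.κ (Red.DS S N)) (N := Red.bc C.κ G) ((Over.pullback C.κ).map v) :=
    DiagRep.isMonHom_bc_map C.κ v
  exact inferInstanceAs (IsMonHom ((bcDS C.κ N).inv ≫ (Over.pullback C.κ).map v ≫ C.e.hom))

/-- The map of characters of a homomorphism at the point. -/
def char (v : Red.DS S N ⟶ G) [IsMonHom v] : Multiplicative C.M →* Multiplicative N :=
  Classical.choose (exists_eq_dd (res C v))

theorem res_eq (v : Red.DS S N ⟶ G) [IsMonHom v] : res C v = dd _ (char C v) :=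
  Classical.choose_spec (exists_eq_dd (res C v))

theorem char_eq_of_res {v : Red.DS S N ⟶ G} [IsMonHom v] {ψ : Multiplicative C.M →* Multiplicative N}
    (h : res C v = dd _ ψ) : char C v = ψ :=
  dd_inj ((res_eq C v).symm.trans h)

theorem char_congr {v v' : Red.DS S N ⟶ G} [IsMonHom v] [IsMonHom v'] (h : v = v') : char C v = char C v' := by
  subst h; rfl

theorem char_dd_comp (g : Multiplicative N →* Multiplicative N') (v : Red.DS S N ⟶ G) [IsMonHom v] :
    char C (dd S g ≫ v) = g.comp (char C v) := by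
  refine char_eq_of_res C ?_
  rw [← MultSubLib.dd_comp_dd, ← res_eq, res, res, Functor.map_comp]
  simp only [← Category.assoc, bc_map_dd]

theorem res_mul (v v' : Red.DS S N ⟶ G) : res C (v * v') = res C v * res C v' := by
  rw [res, res, res, Functor.map_mul, MonObj.mul_comp, MonObj.comp_mul]

theorem char_mul (v v' : Red.DS S N ⟶ G) [IsMonHom v] [IsMonHom v'] [IsMonHom (v * v')] :
    char C (v * v') = char C v * char C v' :=
  char_eq_of_res C (by rw [res_mul, res_eq C v, res_eq C v', dd_mul])

theorem res_one : res C (1 : Red.DS S N ⟶ G) = 1 := by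
  rw [res, Functor.map_one, MonObj.one_comp, MonObj.comp_one]

theorem isMonHom_mul {G : Over S} [GrpObj G] (hG : SGA3x.IsMultTypeFT G) {A : Over S} [GrpObj A] (v v' : A ⟶ G)
    [IsMonHom v] [IsMonHom v'] : IsMonHom (v * v') :=
  RedRank.isMonHom_of_mul _ fun Z a b => by
    have key : (a ≫ v') * (b ≫ v) = (b ≫ v) * (a ≫ v') := MultExt.commute_of_isMultTypeFT hG _ _
    simp only [MonObj.comp_mul, MonObj.mul_comp]
    rw [_root_.mul_assoc, ← _root_.mul_assoc (b ≫ v), ← key, _root_.mul_assoc (a ≫ v'), ← _root_.mul_assoc (a ≫ v)]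

theorem isMonHom_inv {G : Over S} [GrpObj G] (hG : SGA3x.IsMultTypeFT G) {A : Over S} [GrpObj A] (v : A ⟶ G)
    [IsMonHom v] : IsMonHom v⁻¹ :=
  RedRank.isMonHom_of_mul _ fun Z a b => by
    simp only [GrpObj.comp_inv, MonObj.mul_comp]
    rw [mul_inv_rev, MultExt.commute_of_isMultTypeFT hG]

variable [AddGroup.FG N]

/-- A homomorphism with trivial characters at the point is trivial on a connected base. -/
theorem eq_one_of_char [PreconnectedSpace S] (hG : SGA3x.IsMultTypeFT G) (v : Red.DS S N ⟶ G) [IsMonHom v]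
    (h : char C v = 1) : v = 1 := by
  haveI := MultEq.lfp_of_isMultTypeFT hG
  haveI := MultEq.isAffineHom_of_isMultTypeFT hG
  have h0 : res C v = 1 := by rw [res_eq, h, dd_one]
  have h1 : (Over.pullback C.κ).map v = 1 := by
    have h2 := congrArg (fun x => (bcDS C.κ N).hom ≫ x ≫ C.e.inv) h0
    simpa [res, MonObj.one_comp, MonObj.comp_one] using h2
  obtain ⟨O, hcl, hO, htriv⟩ := TrivLocus.exists_locus (u := v) (MultSubLib.isMultTypeFT_DS S N)
    (TrivLocus.eqFinPres_of_lft (u := v))
  have hs : C.κ (IsLocalRing.closedPoint C.K) ∈ O :=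
    (hO _).2 ((TrivLocus.triv_field_iff C.κ).1 ((TrivLocus.triv_iff_map_eq_one C.κ).2 h1))
  have htop : (O : Set S) = Set.univ := (IsClopen.eq_univ ⟨hcl, O.isOpen⟩ ⟨_, hs⟩)
  have hr : Set.range (Red.DS S N).hom ⊆ Set.range O.ι := by
    rw [Scheme.Opens.range_ι, htop]
    exact Set.subset_univ _
  exact (Category.id_comp v).symm.trans (htriv (Red.DS S N) (IsOpenImmersion.lift O.ι _ hr)
    (IsOpenImmersion.lift_fac _ _ hr) (𝟙 _))

theorem char_injective [PreconnectedSpace S] (hG : SGA3x.IsMultTypeFT G) {v v' : Red.DS S N ⟶ G} [IsMonHom v]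
    [IsMonHom v'] (h : char C v = char C v') : v = v' := by
  haveI := isMonHom_inv hG v'
  haveI := isMonHom_mul hG v v'⁻¹
  have hinv : char C v' * char C v'⁻¹ = 1 := by
    haveI := isMonHom_mul hG v' v'⁻¹
    rw [← char_mul]
    exact char_eq_of_res C (by rw [mul_inv_cancel, res_one, dd_one])
  have h0 : char C (v * v'⁻¹) = 1 := by rw [char_mul, h, hinv]
  exact mul_inv_eq_one.1 (eq_one_of_char C hG _ h0)

/-- Monomorphisms have surjective maps of characters. -/
theorem surjective_char (v : Red.DS S N ⟶ G) [IsMonHom v] [Mono v] : Function.Surjective (char C v) := by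
  haveI : Mono (dd (Spec (CommRingCat.of C.K)) (char C v)) := by
    rw [← res_eq, res]
    infer_instance
  intro m
  let π : Multiplicative N →* Multiplicative (N ⧸ (char C v).range.toAddSubgroup') :=
    (QuotientAddGroup.mk' _).toMultiplicative
  have hπ : π.comp (char C v) = 1 := MonoidHom.ext fun x =>
    (QuotientAddGroup.eq_zero_iff (Multiplicative.toAdd (char C v x))).2 ⟨x, rfl⟩
  have e : dd (Spec (CommRingCat.of C.K)) π ≫ dd _ (char C v) =
      dd (Spec (CommRingCat.of C.K)) (1 : Multiplicative N →* _) ≫ dd _ (char C v) := by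
    rw [MultSubLib.dd_comp_dd, MultSubLib.dd_comp_dd, hπ, MonoidHom.one_comp]
  have hm := DFunLike.congr_fun (dd_inj ((cancel_mono _).1 e)) m
  exact (QuotientAddGroup.eq_zero_iff (Multiplicative.toAdd m)).1 hm

/-- On a connected base a homomorphism with surjective map of characters is a monomorphism. -/
theorem mono_of_char [PreconnectedSpace S] (hG : SGA3x.IsMultTypeFT G) (v : Red.DS S N ⟶ G) [IsMonHom v]
    (h : Function.Surjective (char C v)) : Mono v := by
  have hK : (MorphismProperty.monomorphisms Scheme.{u}) ((Over.pullback C.κ).map v).left := by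
    show Mono _
    rw [show (Over.pullback C.κ).map v = (bcDS C.κ N).hom ≫ res C v ≫ C.e.inv by simp [res], res_eq]
    haveI : IsClosedImmersion (dd (Spec (CommRingCat.of C.K)) (char C v)).left := by
      rw [ImgTorus.dd_eq_map]
      exact MorphismProperty.overPullbackMap (P := @IsClosedImmersion) _ _ (MultHom.isClosedImmersion_dpt h)
    haveI : IsIso (bcDS C.κ N).hom.left := ((Over.forget _).mapIso (bcDS C.κ N)).isIso_hom
    haveI : IsIso C.e.inv.left := ((Over.forget _).mapIso C.e.symm).isIso_hom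
    exact inferInstanceAs (Mono ((bcDS C.κ N).hom.left ≫ (dd _ (char C v)).left ≫ C.e.inv.left))
  obtain ⟨U, hcl, hU, hUm⟩ := MultHom.exists_locus v MultHom.descends_mono MultHom.decided_mono
    (MultHom.locDiag_of_isMultTypeFT (MultSubLib.isMultTypeFT_DS S N)) hG
  have hs : C.κ (IsLocalRing.closedPoint C.K) ∈ U := (hU _).2 ((MultHom.field_iff MultHom.descends_mono v C.κ).1 hK)
  have htop : (U : Set S) = Set.univ := IsClopen.eq_univ ⟨hcl, U.isOpen⟩ ⟨_, hs⟩
  have hid : (MorphismProperty.monomorphisms Scheme.{u}) ((Over.pullback (𝟙 S)).map v).left :=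
    MultHom.of_family MultHom.descends_mono v (𝟙 S) (I := PUnit.{u + 1}) (fun _ => U.ι) (fun _ => inferInstance)
      (fun s => ⟨PUnit.unit, by rw [Scheme.Opens.range_ι, htop]; trivial⟩) (fun _ => by rw [Category.comp_id]; exact hUm)
  haveI : Mono ((Over.pullback (𝟙 S)).map v).left := hid
  haveI : Mono ((Over.pullback (𝟙 S)).map v) := Over.mono_of_mono_left _
  rw [show v = Over.pullbackId.inv.app _ ≫ (Over.pullback (𝟙 S)).map v ≫ Over.pullbackId.hom.app G from
    (NatIso.naturality_1 Over.pullbackId v).symm]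
  infer_instance

end Groth.Agent.SplitSub
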