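import Groth.Agent.HomCorrLib.Bridge
import Groth.Agent.QIsoLib.Main
import Groth.Agent.SplitSubLib.Basic

/-!
# Splitting a group of multiplicative type etale locally
-/

set_option autoImplicit false
set_option linter.style.haveILetI false
set_option backward.isDefEq.respectTransparency false
set_option maxHeartbeats 1000000
set_option synthInstance.maxHeartbeats 400000

noncomputable section

universe u

open CategoryTheory CategoryTheory.Limits MonoidalCategory CartesianMonoidalCategory AlgebraicGeometry CoactBr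
open scoped MonObj TensorProduct

attribute [-instance] CategoryTheory.Hom.commGroup

namespace Groth.Agent.SplitSub

open Groth.Agent.DiagRep (baseHom)

attribute [local instance] CoactBr.braidedAlgSpecOf

variable {S : Scheme.{u}}

/-- Near every point a group of multiplicative type and finite type is diagonalised by an etale map. -/
theorem exists_etale_split {G : Over S} [GrpObj G] (hG : SGA3x.IsMultTypeFT G) (s : S) :
    ∃ (Y : Scheme.{u}) (f : Y ⟶ S) (y : Y) (M : Type) (_ : AddCommGroup M) (_ : AddGroup.FG M)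
      (e : Red.bc f G ≅ Red.DS Y M), Etale f ∧ f y = s ∧ IsMonHom e.hom := by
  obtain ⟨V, hV, hsV, -⟩ := exists_isAffineOpen_mem_and_subset (X := S) (x := s) (U := ⊤) trivial
  let R : Type u := (Γ(S, V) : CommRingCat.{u})
  let ι₀ : Spec (CommRingCat.of R) ⟶ S := hV.fromSpec
  let H : Over (Spec (CommRingCat.of R)) := Red.bc ι₀ G
  have hH : SGA3x.IsMultTypeFT H := DescHom.isMultTypeFT_bc hG ι₀
  haveI := MultEq.isAffineHom_of_isMultTypeFT hH
  haveI := MultEq.lfp_of_isMultTypeFT hH
  haveI : IsAffine H.left := isAffine_of_isAffineHom H.hom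
  obtain ⟨A, _, _, v, hv, -⟩ := HomCorr.exists_hopf H
  haveI := hv
  haveI : IsIso v.hom.left := ((Over.forget _).mapIso v).isIso_hom
  haveI : Algebra.FiniteType R A := by
    haveI : LocallyOfFiniteType (sp R A).hom := by rw [← Over.w v.hom]; infer_instance
    exact RingHom.finiteType_algebraMap.1
      ((HasRingHomProperty.Spec_iff (P := @LocallyOfFiniteType) (φ := CommRingCat.ofHom (algebraMap R A))).1
        (inferInstance : LocallyOfFiniteType (sp R A).hom))
  have hmt : SGA3b.IsMultType R A := HomCorr.isMultType_of_locally v.hom (by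
    obtain ⟨S', g, h1, h2, h3, h4⟩ := hH
    exact ⟨S', g, h1, h2, h3, fun z => by
      obtain ⟨U, hU, M, i, -, h⟩ := h4 z
      exact ⟨U, hU, M, i, h⟩⟩)
  obtain ⟨x, hx⟩ : ∃ x : Spec (CommRingCat.of R), ι₀ x = s := by
    have : s ∈ Set.range hV.fromSpec := by rw [hV.range_fromSpec]; exact hsV
    exact this
  obtain ⟨t, ht, H'⟩ := DiagHopf.exists_cover_split hmt
  obtain ⟨f, hf, hfx⟩ : ∃ f ∈ t, f ∉ (show PrimeSpectrum R from x).asIdeal := by
    by_contra hne
    push Not at hne
    exact (show PrimeSpectrum R from x).isPrime.ne_top (top_le_iff.1 (ht ▸ Ideal.span_le.2 fun g hg => hne g hg))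
  obtain ⟨S₁, _, _, _, _, N, _, hff, ⟨E⟩⟩ := H' f hf
  haveI := hff
  haveI : Algebra.FiniteType (Localization.Away f) (Localization.Away f ⊗[R] A) :=
    Algebra.FiniteType.baseChange (A := A) (Localization.Away f)
  obtain ⟨E'⟩ := DiagHopf.exists_split_transfer' (R' := Localization.Away f) E
  obtain ⟨P, hPp, hPc⟩ : ∃ P : Ideal (Localization.Away f), P.IsPrime ∧
      P.comap (algebraMap R (Localization.Away f)) = (show PrimeSpectrum R from x).asIdeal := by
    have hd : Disjoint (Submonoid.powers f : Set R) (show PrimeSpectrum R from x).asIdeal :=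
      (Ideal.disjoint_powers_iff_notMem_of_isPrime f).2 hfx
    exact ⟨_, IsLocalization.isPrime_of_isPrime_disjoint (Submonoid.powers f) (Localization.Away f) _
      (show PrimeSpectrum R from x).isPrime hd,
      IsLocalization.comap_map_of_isPrime_disjoint (Submonoid.powers f) (Localization.Away f)
        (show PrimeSpectrum R from x).isPrime hd⟩
  haveI := hPp
  obtain ⟨T, _, _, Q, hT, hQ, hQc, ⟨ET⟩⟩ := QIso.exists_split_at E' P
  letI : Algebra R T := ((algebraMap (Localization.Away f) T).comp (algebraMap R (Localization.Away f))).toAlgebra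
  haveI : IsScalarTower R (Localization.Away f) T := IsScalarTower.of_algebraMap_eq fun _ => rfl
  obtain ⟨E₁⟩ := DiagHopf.exists_split_transfer ET
  haveI : Nontrivial T := by
    by_contra h
    rw [not_nontrivial_iff_subsingleton] at h
    exact hQ.ne_top (Subsingleton.elim _ _)
  haveI : AddGroup.FG (Additive N) := AddGroup.fg_iff_addMonoid_fg.2 (DiagHopf.fg_of_split' E₁)
  obtain ⟨M, _, hM, ⟨φ⟩⟩ := HomCorr.exists_small (Additive N)
  obtain ⟨E₂⟩ := HomCorr.exists_reindex E₁ φ
  obtain ⟨e⟩ := HomCorr.exists_iso_DS_of_split v.hom E₂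
  let e₁ : Red.bc (baseHom R T) H ≅ Red.DS (Spec (CommRingCat.of T)) M := (Grp.forget _).mapIso e
  haveI : IsMonHom e₁.hom := e.hom.hom.isMonHom_hom
  haveI : IsMonHom (ActBC.bcCompIso (baseHom R T) ι₀ G rfl).hom := ActBC.bcCompIso_isMonHom _ _ _
  haveI : Algebra.Etale R T := by
    haveI := hT
    exact Algebra.Etale.comp R (Localization.Away f) T
  haveI : Etale (baseHom R T) := by
    show Etale (Spec.map (CommRingCat.ofHom (algebraMap R T)))
    rw [HasRingHomProperty.Spec_iff (P := @Etale)]
    exact RingHom.etale_algebraMap.2 inferInstance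
  refine ⟨_, baseHom R T ≫ ι₀, (⟨Q, hQ⟩ : PrimeSpectrum T), M, inferInstance, hM,
    (ActBC.bcCompIso (baseHom R T) ι₀ G rfl).symm ≪≫ e₁, inferInstance, ?_,
    inferInstanceAs (IsMonHom ((ActBC.bcCompIso (baseHom R T) ι₀ G rfl).inv ≫ e₁.hom))⟩
  rw [Scheme.Hom.comp_apply, ← hx]
  congr 1
  refine PrimeSpectrum.ext ?_
  show Q.comap (algebraMap R T) = _
  rw [← hPc, ← hQc, Ideal.comap_comap]
  rfl

end Groth.Agent.SplitSub
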