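import Groth.Agent.SplitSubLib.Univ
import Groth.Agent.S16611

/-!
# Split subtori
-/

set_option autoImplicit false
set_option linter.style.haveILetI false
set_option linter.unusedSectionVars false
set_option backward.isDefEq.respectTransparency false
set_option maxHeartbeats 1000000
set_option synthInstance.maxHeartbeats 400000

noncomputable section

universe u

open CategoryTheory CategoryTheory.Limits MonoidalCategory CartesianMonoidalCategory AlgebraicGeometry CoactBr
open scoped MonObj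

attribute [-instance] CategoryTheory.Hom.commGroup

namespace Groth.Agent.SplitSub

open MultSubLib (chars dd)

attribute [local instance] CoactBr.braidedAlgSpecOf

variable {S : Scheme.{u}} {G : Over S} [GrpObj G]

theorem exists_iso_of_split {T : Over S} [GrpObj T] {M : Type} [AddCommGroup M] (h : Red.IsSplitTorusWith M T) :
    ∃ e : T ≅ Red.DS S M, IsMonHom e.hom := by
  obtain ⟨E⟩ := h
  exact ⟨(Grp.forget _).mapIso E, E.hom.hom.isMonHom_hom⟩

theorem isSplit_of_iso {T : Over S} [GrpObj T] {M : Type} [AddCommGroup M] (e : T ≅ Red.DS S M) [IsMonHom e.hom] :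
    Red.IsSplitTorusWith M T := ⟨Grp.mkIso' e⟩

theorem isSplit_DS (M : Type) [AddCommGroup M] : Red.IsSplitTorusWith M (Red.DS S M) := ⟨Iso.refl _⟩

theorem isSplit_bc {T : Over S} [GrpObj T] {M : Type} [AddCommGroup M] (h : Red.IsSplitTorusWith M T)
    {S' : Scheme.{u}} (f : S' ⟶ S) : Red.IsSplitTorusWith M (Red.bc f T) := by
  obtain ⟨e, he⟩ := exists_iso_of_split h
  haveI := he
  let e₁ : Red.bc f T ≅ Red.bc f (Red.DS S M) := (Over.pullback f).mapIso e
  haveI : IsMonHom e₁.hom := DiagRep.isMonHom_bc_map f e.hom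
  haveI : IsMonHom (e₁ ≪≫ bcDS f M).hom := inferInstanceAs (IsMonHom (e₁.hom ≫ (bcDS f M).hom))
  exact isSplit_of_iso (e₁ ≪≫ bcDS f M)

theorem isTorus_of_split {T : Over S} [GrpObj T] {r : ℕ} (h : Red.IsSplitTorusWith (Fin r → ℤ) T) : Red.IsTorus T := by
  obtain ⟨e, he⟩ := exists_iso_of_split h
  haveI := he
  exact RedRank.isTorus_of_iso e (RedRank.isTorus_DS S r)

/-- The rank of a split subtorus is at most the rank of the character group at a point. -/
theorem rank_le (C : Chart G) {T : Over S} [GrpObj T] {r : ℕ} (h : Red.IsSplitTorusWith (Fin r → ℤ) T) (j : T ⟶ G)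
    [IsMonHom j] [Mono j] : r ≤ Module.finrank ℤ C.M := by
  obtain ⟨e, he⟩ := exists_iso_of_split h
  haveI := he
  haveI : Module.Finite ℤ C.M := Module.Finite.iff_addGroup_fg.2 inferInstance
  have hs := surjective_char C (e.inv ≫ j)
  let φ : C.M →ₗ[ℤ] (Fin r → ℤ) := (AddMonoidHom.toMultiplicative.symm (char C (e.inv ≫ j))).toIntLinearMap
  have hφ : Function.Surjective φ := fun x => by
    obtain ⟨m, hm⟩ := hs (Multiplicative.ofAdd x)
    exact ⟨Multiplicative.toAdd m, congrArg Multiplicative.toAdd hm⟩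
  simpa using φ.finrank_le_finrank_of_surjective hφ

/-- A split torus has a chart with its own character group. -/
theorem exists_chart_split [Nonempty S] {T : Over S} [GrpObj T] {r : ℕ} (h : Red.IsSplitTorusWith (Fin r → ℤ) T) :
    ∃ C : Chart T, Module.finrank ℤ C.M = r := by
  obtain ⟨s⟩ := ‹Nonempty S›
  obtain ⟨e, he⟩ := exists_iso_of_split (isSplit_bc h (Red.geomPt s))
  haveI : AddGroup.FG (Fin r → ℤ) := Module.Finite.iff_addGroup_fg.1 inferInstance
  exact ⟨⟨_, Red.geomPt s, Fin r → ℤ, e, he⟩, Module.finrank_fin_fun ℤ⟩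

/-- The rank of a split subtorus of a split torus is at most its rank. -/
theorem rank_le_rank [Nonempty S] {T T' : Over S} [GrpObj T] [GrpObj T'] {r r' : ℕ}
    (hT : Red.IsSplitTorusWith (Fin r → ℤ) T) (hT' : Red.IsSplitTorusWith (Fin r' → ℤ) T') (g : T ⟶ T')
    [IsMonHom g] [Mono g] : r ≤ r' := by
  obtain ⟨C, hC⟩ := exists_chart_split hT'
  exact hC ▸ rank_le C hT g

/-- A monomorphism of split tori of the same rank is invertible. -/
theorem isIso_of_mono {T T' : Over S} [GrpObj T] [GrpObj T'] {r : ℕ} (hT : Red.IsSplitTorusWith (Fin r → ℤ) T)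
    (hT' : Red.IsSplitTorusWith (Fin r → ℤ) T') (g : T ⟶ T') [IsMonHom g] [Mono g] : IsIso g :=
  Groth.Agent.S16611.result (isTorus_of_split hT) (isTorus_of_split hT') g
    fun s => ⟨r, isSplit_bc hT (Red.geomPt s), isSplit_bc hT' (Red.geomPt s)⟩

/-- Factoring a homomorphism from a split torus through the universal one. -/
theorem exists_factor {r : ℕ} {v : Red.DS S (Fin r → ℤ) ⟶ G} [IsMonHom v]
    (hv : ∀ (r' : ℕ) (w : Red.DS S (Fin r' → ℤ) ⟶ G) [IsMonHom w],
      ∃ g : Multiplicative (Fin r → ℤ) →* Multiplicative (Fin r' → ℤ), dd S g ≫ v = w)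
    {T : Over S} [GrpObj T] {r' : ℕ} (h : Red.IsSplitTorusWith (Fin r' → ℤ) T) (j : T ⟶ G) [IsMonHom j] :
    ∃ g : T ⟶ Red.DS S (Fin r → ℤ), IsMonHom g ∧ g ≫ v = j := by
  obtain ⟨e, he⟩ := exists_iso_of_split h
  haveI := he
  obtain ⟨g, hg⟩ := hv r' (e.inv ≫ j)
  exact ⟨e.hom ≫ dd S g, inferInstance, by rw [Category.assoc, hg, Iso.hom_inv_id_assoc]⟩

/-- The greatest split subtorus. -/
theorem exists_greatest [PreconnectedSpace S] [Nonempty S] (hG : SGA3x.IsMultTypeFT G) :
    ∃ (T : Over S) (_ : GrpObj T) (j : T ⟶ G) (r : ℕ), IsMonHom j ∧ Mono j ∧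
      Red.IsSplitTorusWith (Fin r → ℤ) T ∧
      ∀ (T' : Over S) [GrpObj T'] (j' : T' ⟶ G) [IsMonHom j'] (r' : ℕ),
        Red.IsSplitTorusWith (Fin r' → ℤ) T' → ∃ g : T' ⟶ T, IsMonHom g ∧ g ≫ j = j' := by
  obtain ⟨r, v, hv, hm, hu⟩ := exists_univ hG
  haveI := hv
  exact ⟨_, inferInstance, v, r, hv, hm, isSplit_DS _, fun T' _ j' _ r' h => exists_factor hu h j'⟩

/-- A factor of a homomorphism through a monomorphism is a homomorphism. -/
theorem isMonHom_of_fac {A B : Over S} [GrpObj A] [GrpObj B] (g : A ⟶ B) (j : B ⟶ G) [IsMonHom j] [Mono j] (j' : A ⟶ G)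
    [IsMonHom j'] (h : g ≫ j = j') : IsMonHom g :=
  RedRank.isMonHom_of_mul g fun Z a b => by
    rw [← cancel_mono j, Category.assoc, h, MonObj.mul_comp, MonObj.mul_comp, Category.assoc, Category.assoc, h]

end Groth.Agent.SplitSub
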