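import Groth.Agent.SplitSubLib.Split
import Groth.Agent.ImgTorusLib.Global

/-!
# Locally split subtori
-/

set_option autoImplicit false
set_option linter.style.haveILetI false
set_option linter.unusedSectionVars false
set_option backward.isDefEq.respectTransparency false
set_option maxHeartbeats 1000000
set_option synthInstance.maxHeartbeats 400000

noncomputable section

universe u

open CategoryTheory CategoryTheory.Limits MonoidalCategory CartesianMonoidalCategory AlgebraicGeometry CoactBr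
open scoped MonObj

attribute [-instance] CategoryTheory.Hom.commGroup

namespace Groth.Agent.SplitSub

open MultSubLib (chars dd)

attribute [local instance] CoactBr.braidedAlgSpecOf

variable {S : Scheme.{u}} {G : Over S} [GrpObj G]

/-- Zariski locally split. -/
def LocSplit (E : Over S) [GrpObj E] : Prop :=
  ∀ s : ↥S, ∃ U : S.Opens, s ∈ U ∧ ∃ r : ℕ, Red.IsSplitTorusWith (Fin r → ℤ) (Red.bc U.ι E)

/-- A base change of a split base change is split. -/
theorem isSplit_trans {E : Over S} [GrpObj E] {M : Type} [AddCommGroup M] {U V : Scheme.{u}} {g : U ⟶ S}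
    (h : Red.IsSplitTorusWith M (Red.bc g E)) (l : V ⟶ U) {g' : V ⟶ S} (e : l ≫ g = g') :
    Red.IsSplitTorusWith M (Red.bc g' E) := by
  obtain ⟨a, ha⟩ := exists_iso_of_split (isSplit_bc h l)
  haveI := ha
  haveI : IsMonHom (ActBC.bcCompIso l g E e).hom := ActBC.bcCompIso_isMonHom _ _ _
  haveI : IsMonHom ((ActBC.bcCompIso l g E e).symm ≪≫ a).hom :=
    inferInstanceAs (IsMonHom ((ActBC.bcCompIso l g E e).inv ≫ a.hom))
  exact isSplit_of_iso ((ActBC.bcCompIso l g E e).symm ≪≫ a)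

theorem LocSplit.isTorus {E : Over S} [GrpObj E] (h : LocSplit E) : Red.IsTorus E := by
  refine ⟨S, 𝟙 S, inferInstance, inferInstance, fun V hV => ⟨V, hV.isCompact, Set.image_id _⟩, fun s => ?_⟩
  obtain ⟨U, hU, r, hr⟩ := h s
  exact ⟨U, hU, r, isSplit_trans hr (𝟙 _) (by rw [Category.id_comp, Category.comp_id])⟩

/-- The product of two diagonalisable groups. -/
theorem exists_DS_prod (M N : Type) [AddCommGroup M] [AddCommGroup N] :
    ∃ e : Red.DS S (M × N) ≅ Red.DS S M ⊗ Red.DS S N, IsMonHom e.hom := by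
  let iM : Multiplicative M →* Multiplicative (M × N) := (AddMonoidHom.inl M N).toMultiplicative
  let iN : Multiplicative N →* Multiplicative (M × N) := (AddMonoidHom.inr M N).toMultiplicative
  let pM : Multiplicative (M × N) →* Multiplicative M := (AddMonoidHom.fst M N).toMultiplicative
  let pN : Multiplicative (M × N) →* Multiplicative N := (AddMonoidHom.snd M N).toMultiplicative
  let e : Red.DS S (M × N) ≅ Red.DS S M ⊗ Red.DS S N :=
    { hom := lift (dd S iM) (dd S iN)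
      inv := (fst _ _ ≫ dd S pM) * (snd _ _ ≫ dd S pN)
      hom_inv_id := by
        rw [MonObj.comp_mul, lift_fst_assoc, lift_snd_assoc, MultSubLib.dd_comp_dd, MultSubLib.dd_comp_dd, ← dd_mul,
          show iM.comp pM * iN.comp pN = MonoidHom.id _ from MonoidHom.ext fun x =>
            Multiplicative.toAdd.injective (Prod.ext (add_zero _) (zero_add _)), MultSubLib.dd_id]
      inv_hom_id := by
        refine CartesianMonoidalCategory.hom_ext _ _ ?_ ?_
        · rw [Category.assoc, lift_fst, Category.id_comp, MultSubLib.mul_comp_dd, Category.assoc, Category.assoc,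
            MultSubLib.dd_comp_dd, MultSubLib.dd_comp_dd, show pM.comp iM = MonoidHom.id _ from MonoidHom.ext fun _ => rfl,
            show pN.comp iM = 1 from MonoidHom.ext fun _ => rfl, MultSubLib.dd_id, dd_one, Category.comp_id,
            MonObj.comp_one, _root_.mul_one]
        · rw [Category.assoc, lift_snd, Category.id_comp, MultSubLib.mul_comp_dd, Category.assoc, Category.assoc,
            MultSubLib.dd_comp_dd, MultSubLib.dd_comp_dd, show pN.comp iN = MonoidHom.id _ from MonoidHom.ext fun _ => rfl,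
            show pM.comp iN = 1 from MonoidHom.ext fun _ => rfl, MultSubLib.dd_id, dd_one, Category.comp_id,
            MonObj.comp_one, _root_.one_mul] }
  exact ⟨e, inferInstanceAs (IsMonHom (lift (dd S iM) (dd S iN)))⟩

theorem isSplit_tensor {E E' : Over S} [GrpObj E] [GrpObj E'] {a b : ℕ} (h : Red.IsSplitTorusWith (Fin a → ℤ) E)
    (h' : Red.IsSplitTorusWith (Fin b → ℤ) E') : Red.IsSplitTorusWith (Fin (a + b) → ℤ) (E ⊗ E') := by
  obtain ⟨e, he⟩ := exists_iso_of_split h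
  obtain ⟨e', he'⟩ := exists_iso_of_split h'
  haveI := he; haveI := he'
  obtain ⟨p, hp⟩ := exists_DS_prod (S := S) (Fin a → ℤ) (Fin b → ℤ)
  haveI := hp
  haveI : AddGroup.FG (Fin (a + b) → ℤ) := Module.Finite.iff_addGroup_fg.1 inferInstance
  obtain ⟨q⟩ := ImgTorus.nonempty_DS_iso S ((LinearEquiv.sumArrowLequivProdArrow (Fin a) (Fin b) ℤ ℤ).symm ≪≫ₗ
    LinearEquiv.funCongrLeft ℤ ℤ finSumFinEquiv.symm).toAddEquiv
  let q₁ : Red.DS S ((Fin a → ℤ) × (Fin b → ℤ)) ≅ Red.DS S (Fin (a + b) → ℤ) := (Grp.forget _).mapIso q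
  haveI : IsMonHom q₁.hom := q.hom.hom.isMonHom_hom
  let t : E ⊗ E' ≅ Red.DS S (Fin a → ℤ) ⊗ Red.DS S (Fin b → ℤ) :=
    { hom := lift (fst _ _ ≫ e.hom) (snd _ _ ≫ e'.hom)
      inv := lift (fst _ _ ≫ e.inv) (snd _ _ ≫ e'.inv)
      hom_inv_id := by refine CartesianMonoidalCategory.hom_ext _ _ ?_ ?_ <;> simp
      inv_hom_id := by refine CartesianMonoidalCategory.hom_ext _ _ ?_ ?_ <;> simp }
  haveI : IsMonHom t.hom := inferInstanceAs (IsMonHom (lift (fst _ _ ≫ e.hom) (snd _ _ ≫ e'.hom)))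
  haveI : IsMonHom (t ≪≫ p.symm ≪≫ q₁).hom := inferInstanceAs (IsMonHom (t.hom ≫ p.inv ≫ q₁.hom))
  exact isSplit_of_iso (t ≪≫ p.symm ≪≫ q₁)

theorem LocSplit.tensor {E E' : Over S} [GrpObj E] [GrpObj E'] (h : LocSplit E) (h' : LocSplit E') :
    LocSplit (E ⊗ E') := fun s => by
  obtain ⟨U, hU, a, ha⟩ := h s
  obtain ⟨U', hU', b, hb⟩ := h' s
  let W := U ⊓ U'
  refine ⟨W, ⟨hU, hU'⟩, a + b, ?_⟩
  have h1 := isSplit_trans ha (S.homOfLE (inf_le_left : W ≤ U)) (Scheme.homOfLE_ι _ _)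
  have h2 := isSplit_trans hb (S.homOfLE (inf_le_right : W ≤ U')) (Scheme.homOfLE_ι _ _)
  obtain ⟨e, he⟩ := exists_iso_of_split (isSplit_tensor h1 h2)
  haveI := he
  haveI : IsMonHom (M := Red.bc W.ι (E ⊗ E')) (N := Red.bc W.ι E) ((Over.pullback W.ι).map (fst E E')) :=
    DiagRep.isMonHom_bc_map _ _
  haveI : IsMonHom (M := Red.bc W.ι (E ⊗ E')) (N := Red.bc W.ι E') ((Over.pullback W.ι).map (snd E E')) :=
    DiagRep.isMonHom_bc_map _ _
  let c : Red.bc W.ι (E ⊗ E') ⟶ Red.bc W.ι E ⊗ Red.bc W.ι E' := CartesianMonoidalCategory.prodComparison (Over.pullback W.ι) E E'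
  haveI : IsMonHom c := inferInstanceAs (IsMonHom (lift (X := Red.bc W.ι E) (Y := Red.bc W.ι E')
    ((Over.pullback W.ι).map (fst E E')) ((Over.pullback W.ι).map (snd E E'))))
  haveI : IsIso c := inferInstanceAs (IsIso (CartesianMonoidalCategory.prodComparison (Over.pullback W.ι) E E'))
  haveI : IsMonHom (asIso c ≪≫ e).hom := inferInstanceAs (IsMonHom (c ≫ e.hom))
  exact isSplit_of_iso (asIso c ≪≫ e)

/-- Two locally split subtori lie in a third. -/
theorem exists_ge (hG : SGA3x.IsMultTypeFT G) {E₁ E₂ : Over S} [GrpObj E₁] [GrpObj E₂] (j₁ : E₁ ⟶ G) [IsMonHom j₁]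
    (j₂ : E₂ ⟶ G) [IsMonHom j₂] (h₁ : LocSplit E₁) (h₂ : LocSplit E₂) :
    ∃ (E₃ : Over S) (_ : GrpObj E₃) (j₃ : E₃ ⟶ G), IsMonHom j₃ ∧ Mono j₃ ∧ LocSplit E₃ ∧
      (∃ g : E₁ ⟶ E₃, g ≫ j₃ = j₁) ∧ ∃ g : E₂ ⟶ E₃, g ≫ j₃ = j₂ := by
  haveI := MultEq.lfp_of_isMultTypeFT hG
  haveI := MultEq.isAffineHom_of_isMultTypeFT hG
  haveI := isMonHom_mul hG (fst E₁ E₂ ≫ j₁) (snd E₁ E₂ ≫ j₂)
  let v := (fst E₁ E₂ ≫ j₁) * (snd E₁ E₂ ≫ j₂)
  have hl := h₁.tensor h₂
  obtain ⟨E₃, i₃, j₃, hj, hm, p, hp, -, hpv, hf, hs, hlf⟩ := ImgTorus.exists_image_torus hl.isTorus v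
  haveI := hj; haveI := hm; haveI := hp; haveI := hf; haveI := hs; haveI := hlf
  refine ⟨E₃, i₃, j₃, hj, hm, fun s => ?_, ⟨lift (𝟙 _) 1 ≫ p, ?_⟩, ⟨lift 1 (𝟙 _) ≫ p, ?_⟩⟩
  · obtain ⟨U, hU, r, hr⟩ := hl s
    obtain ⟨V, hV, r', hr'⟩ := ImgTorus.exists_split_quot v p j₃ hpv (𝟙 S) (U := U) (z := s)
      (isSplit_trans hr (𝟙 _) (by rw [Category.id_comp, Category.comp_id])) hU
    exact ⟨V, hV, r', isSplit_trans hr' (𝟙 _) (by rw [Category.id_comp, Category.comp_id])⟩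
  · rw [Category.assoc, hpv, MonObj.comp_mul, lift_fst_assoc, lift_snd_assoc, Category.id_comp, MonObj.one_comp,
      _root_.mul_one]
  · rw [Category.assoc, hpv, MonObj.comp_mul, lift_fst_assoc, lift_snd_assoc, Category.id_comp, MonObj.one_comp,
      _root_.one_mul]

theorem isMultType_bc (hG : SGA3x.IsMultTypeFT G) {V : Scheme.{u}} (f : V ⟶ S) : SGA3x.IsMultTypeFT (Red.bc f G) :=
  DescHom.isMultTypeFT_bc hG f

/-- The rank is unique. -/
theorem rank_unique [Nonempty S] {T : Over S} [GrpObj T] {r r' : ℕ} (h : Red.IsSplitTorusWith (Fin r → ℤ) T)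
    (h' : Red.IsSplitTorusWith (Fin r' → ℤ) T) : r = r' :=
  le_antisymm (rank_le_rank h h' (𝟙 T)) (rank_le_rank h' h (𝟙 T))

/-- Two local ranks agree where both are defined. -/
theorem rank_unique_at {E : Over S} [GrpObj E] {U U' : S.Opens} {r r' : ℕ} {s : S} (hs : s ∈ U) (hs' : s ∈ U')
    (h : Red.IsSplitTorusWith (Fin r → ℤ) (Red.bc U.ι E)) (h' : Red.IsSplitTorusWith (Fin r' → ℤ) (Red.bc U'.ι E)) :
    r = r' := by
  haveI : Nonempty ((U ⊓ U' : S.Opens) : Scheme.{u}) := ⟨⟨s, hs, hs'⟩⟩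
  exact rank_unique (isSplit_trans h (S.homOfLE (inf_le_left : U ⊓ U' ≤ U)) (Scheme.homOfLE_ι _ _))
    (isSplit_trans h' (S.homOfLE (inf_le_right : U ⊓ U' ≤ U')) (Scheme.homOfLE_ι _ _))

/-- A monomorphism of locally split tori does not lower the rank. -/
theorem rank_le_at {E E' : Over S} [GrpObj E] [GrpObj E'] (g : E ⟶ E') [IsMonHom g] [Mono g] {U U' : S.Opens}
    {r r' : ℕ} {s : S} (hs : s ∈ U) (hs' : s ∈ U') (h : Red.IsSplitTorusWith (Fin r → ℤ) (Red.bc U.ι E))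
    (h' : Red.IsSplitTorusWith (Fin r' → ℤ) (Red.bc U'.ι E')) : r ≤ r' := by
  haveI : Nonempty ((U ⊓ U' : S.Opens) : Scheme.{u}) := ⟨⟨s, hs, hs'⟩⟩
  let W : S.Opens := U ⊓ U'
  let gW : Red.bc W.ι E ⟶ Red.bc W.ι E' := (Over.pullback W.ι).map g
  haveI : IsMonHom gW := DiagRep.isMonHom_bc_map _ _
  haveI : Mono gW := inferInstanceAs (Mono ((Over.pullback W.ι).map g))
  exact rank_le_rank (isSplit_trans h (S.homOfLE (inf_le_left : W ≤ U)) (Scheme.homOfLE_ι _ _))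
    (isSplit_trans h' (S.homOfLE (inf_le_right : W ≤ U')) (Scheme.homOfLE_ι _ _)) gW

/-- On a connected base a monomorphism of locally split tori of the same rank at a point is invertible. -/
theorem isIso_of_rank [PreconnectedSpace S] {E E' : Over S} [GrpObj E] [GrpObj E'] (hE : LocSplit E) (hE' : LocSplit E')
    (g : E ⟶ E') [IsMonHom g] [Mono g] {s₀ : S} {U U' : S.Opens} (hs : s₀ ∈ U) (hs' : s₀ ∈ U') {r : ℕ}
    (h : Red.IsSplitTorusWith (Fin r → ℤ) (Red.bc U.ι E)) (h' : Red.IsSplitTorusWith (Fin r → ℤ) (Red.bc U'.ι E')) :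
    IsIso g := by
  let W : Set S := {s | ∃ (r : ℕ) (U U' : S.Opens), s ∈ U ∧ s ∈ U' ∧
    Red.IsSplitTorusWith (Fin r → ℤ) (Red.bc U.ι E) ∧ Red.IsSplitTorusWith (Fin r → ℤ) (Red.bc U'.ι E')}
  have hopen : IsOpen W := isOpen_iff_forall_mem_open.2 fun s ⟨r, U, U', h1, h2, h3, h4⟩ =>
    ⟨(U : Set S) ∩ U', fun t ht => ⟨r, U, U', ht.1, ht.2, h3, h4⟩, U.isOpen.inter U'.isOpen, h1, h2⟩
  have hcl : IsClosed W := by
    refine ⟨isOpen_iff_forall_mem_open.2 fun s hsW => ?_⟩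
    obtain ⟨V, hV, a, ha⟩ := hE s
    obtain ⟨V', hV', b, hb⟩ := hE' s
    refine ⟨(V : Set S) ∩ V', fun t ht htW => hsW ?_, V.isOpen.inter V'.isOpen, hV, hV'⟩
    obtain ⟨r, U, U', h1, h2, h3, h4⟩ := htW
    obtain rfl := rank_unique_at ht.1 h1 ha h3
    obtain rfl := rank_unique_at ht.2 h2 hb h4
    exact ⟨_, V, V', hV, hV', ha, hb⟩
  have htop : W = Set.univ := IsClopen.eq_univ ⟨hcl, hopen⟩ ⟨s₀, r, U, U', hs, hs', h, h'⟩
  refine Groth.Agent.S16611.result hE.isTorus hE'.isTorus g fun s => ?_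
  obtain ⟨r, U, U', h1, h2, h3, h4⟩ : s ∈ W := htop ▸ Set.mem_univ s
  have hpt : ∀ t, Red.geomPt s t = s := fun t => by
    rw [Scheme.Hom.comp_apply]
    exact Scheme.fromSpecResidueField_apply _ _
  have hlift : ∀ (V : S.Opens), s ∈ V → ∃ l, l ≫ V.ι = Red.geomPt s := fun V hV =>
    ⟨IsOpenImmersion.lift V.ι (Red.geomPt s) (by
      rw [Scheme.Opens.range_ι]; rintro _ ⟨t, rfl⟩; rw [hpt]; exact hV), IsOpenImmersion.lift_fac _ _ _⟩
  obtain ⟨l, hl⟩ := hlift U h1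
  obtain ⟨l', hl'⟩ := hlift U' h2
  exact ⟨r, isSplit_trans h3 l hl, isSplit_trans h4 l' hl'⟩

/-- The greatest locally split subtorus. -/
theorem exists_greatest_locSplit [PreconnectedSpace S] [Nonempty S] (hG : SGA3x.IsMultTypeFT G) :
    ∃ (T : Over S) (_ : GrpObj T) (j : T ⟶ G), IsMonHom j ∧ Mono j ∧ LocSplit T ∧
      ∀ (T' : Over S) [GrpObj T'] (j' : T' ⟶ G) [IsMonHom j'], LocSplit T' → ∃ g : T' ⟶ T, g ≫ j = j' := by
  classical
  obtain ⟨C⟩ := nonempty_chart hG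
  let s₀ : S := C.κ (IsLocalRing.closedPoint C.K)
  let P : ℕ → Prop := fun r => ∃ (E : Over S) (_ : GrpObj E) (j : E ⟶ G), IsMonHom j ∧ Mono j ∧ LocSplit E ∧
    ∃ U : S.Opens, s₀ ∈ U ∧ Red.IsSplitTorusWith (Fin r → ℤ) (Red.bc U.ι E)
  have hb : ∀ r, P r → r ≤ Module.finrank ℤ C.M := by
    rintro r ⟨E, iE, j, hj, hm, -, U, hU, hr⟩
    haveI := hj; haveI := hm
    haveI : Subsingleton ↥(Spec (CommRingCat.of C.K)) := inferInstanceAs (Subsingleton (PrimeSpectrum C.K))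
    have hrange : Set.range C.κ ⊆ Set.range U.ι := by
      rw [Scheme.Opens.range_ι]
      rintro _ ⟨t, rfl⟩
      rwa [Subsingleton.elim t (IsLocalRing.closedPoint C.K)]
    let l := IsOpenImmersion.lift U.ι C.κ hrange
    haveI : IsMonHom (ActBC.bcCompIso l U.ι G (IsOpenImmersion.lift_fac _ _ hrange)).hom :=
      ActBC.bcCompIso_isMonHom _ _ _
    let C' : Chart (Red.bc U.ι G) := ⟨C.K, l, C.M, ActBC.bcCompIso l U.ι G (IsOpenImmersion.lift_fac _ _ hrange) ≪≫ C.e,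
      inferInstanceAs (IsMonHom ((ActBC.bcCompIso l U.ι G (IsOpenImmersion.lift_fac _ _ hrange)).hom ≫ C.e.hom))⟩
    let jU : Red.bc U.ι E ⟶ Red.bc U.ι G := (Over.pullback U.ι).map j
    haveI : IsMonHom jU := DiagRep.isMonHom_bc_map _ _
    haveI : Mono jU := inferInstanceAs (Mono ((Over.pullback U.ι).map j))
    exact rank_le C' hr jU
  have h0 : P 0 := by
    refine ⟨Red.DS S (Fin 0 → ℤ), inferInstance, 1, inferInstance, ⟨fun {Y} a b _ => ?_⟩, ?_, ⊤, trivial, ?_⟩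
    · refine MultSubLib.chars_injective (MonoidHom.ext fun m => ?_)
      rw [show m = 1 from Subsingleton.elim (α := Fin 0 → ℤ) (Multiplicative.toAdd m) 0, map_one, map_one]
    · exact fun s => ⟨⊤, trivial, 0, isSplit_bc (isSplit_DS _) _⟩
    · exact isSplit_bc (isSplit_DS _) _
  obtain ⟨E, iE, j, hj, hm, hE, U, hU, hr⟩ : P (Nat.findGreatest P (Module.finrank ℤ C.M)) :=
    Nat.findGreatest_spec (Nat.zero_le _) h0
  haveI := hj; haveI := hm
  refine ⟨E, iE, j, hj, hm, hE, fun T' _ j' _ hT' => ?_⟩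
  obtain ⟨E₃, i₃, j₃, hj₃, hm₃, h₃, ⟨g, hg⟩, ⟨g', hg'⟩⟩ := exists_ge hG j j' hE hT'
  haveI := hj₃; haveI := hm₃
  haveI := isMonHom_of_fac g j₃ j hg
  haveI : Mono (g ≫ j₃) := hg ▸ hm
  haveI : Mono g := mono_of_mono g j₃
  obtain ⟨U₃, hU₃, r₃, hr₃⟩ := h₃ s₀
  have h1 : r₃ ≤ Nat.findGreatest P (Module.finrank ℤ C.M) :=
    Nat.le_findGreatest (hb r₃ ⟨E₃, i₃, j₃, hj₃, hm₃, h₃, U₃, hU₃, hr₃⟩) ⟨E₃, i₃, j₃, hj₃, hm₃, h₃, U₃, hU₃, hr₃⟩
  have h2 := rank_le_at g hU hU₃ hr hr₃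
  rw [le_antisymm h1 h2] at hr₃
  haveI := isIso_of_rank hE h₃ g hU hU₃ hr hr₃
  exact ⟨g' ≫ inv g, by rw [← hg, Category.assoc, IsIso.inv_hom_id_assoc, hg']⟩

end Groth.Agent.SplitSub
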