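import Groth.Agent.SplitSubLib.Extend
import Groth.Agent.SplitSubLib.Loc
import Groth.Agent.S2280

/-!
# Split subtori over a normal base
-/

set_option autoImplicit false
set_option linter.style.haveILetI false
set_option linter.unusedSectionVars false
set_option backward.isDefEq.respectTransparency false
set_option maxHeartbeats 1000000
set_option synthInstance.maxHeartbeats 400000

noncomputable section

universe u

open CategoryTheory CategoryTheory.Limits MonoidalCategory CartesianMonoidalCategory AlgebraicGeometry CoactBr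
open scoped MonObj

attribute [-instance] CategoryTheory.Hom.commGroup

namespace Groth.Agent.SplitSub

open MultSubLib (chars dd)

attribute [local instance] CoactBr.braidedAlgSpecOf

variable {S : Scheme.{u}}

/-- On a connected base homomorphisms into a group of multiplicative type are determined at one point. -/
theorem eq_of_map_eq [PreconnectedSpace S] {H G : Over S} [GrpObj H] [GrpObj G] (hH : SGA3x.IsMultTypeFT H)
    (hG : SGA3x.IsMultTypeFT G) (v v' : H ⟶ G) [IsMonHom v] [IsMonHom v'] {F : Type u} [Field F]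
    (l : Spec (CommRingCat.of F) ⟶ S) (h : (Over.pullback l).map v = (Over.pullback l).map v') : v = v' := by
  haveI := MultEq.lfp_of_isMultTypeFT hG
  haveI := MultEq.isAffineHom_of_isMultTypeFT hG
  haveI := isMonHom_inv hG v'
  haveI := isMonHom_mul hG v v'⁻¹
  have h0 : (Over.pullback l).map (v * v'⁻¹) = 1 := by
    rw [Functor.map_mul, h, ← Functor.map_mul, mul_inv_cancel, Functor.map_one]
  obtain ⟨O, hcl, hO, htriv⟩ := TrivLocus.exists_locus (u := v * v'⁻¹) hH (TrivLocus.eqFinPres_of_lft (u := v * v'⁻¹))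
  have hs : l (IsLocalRing.closedPoint F) ∈ O :=
    (hO _).2 ((TrivLocus.triv_field_iff l).1 ((TrivLocus.triv_iff_map_eq_one l).2 h0))
  have htop : (O : Set S) = Set.univ := IsClopen.eq_univ ⟨hcl, O.isOpen⟩ ⟨_, hs⟩
  have hr : Set.range H.hom ⊆ Set.range O.ι := by
    rw [Scheme.Opens.range_ι, htop]
    exact Set.subset_univ _
  exact mul_inv_eq_one.1 ((Category.id_comp _).symm.trans (htriv H (IsOpenImmersion.lift O.ι _ hr)
    (IsOpenImmersion.lift_fac _ _ hr) (𝟙 _)))

variable [IsLocallyNoetherian S]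
  (hnorm : ∀ x : ↥S, IsDomain (S.presheaf.stalk x) ∧ IsIntegrallyClosed (S.presheaf.stalk x))

include hnorm

theorem isIntegral_of_connected_normal [ConnectedSpace S] : IsIntegral S :=
  (Groth.Agent.S2280.result S).2.2 ⟨inferInstance, fun x => (hnorm x).1⟩

/-- A homomorphism from a split torus given on an open subset factors through the greatest split subtorus. -/
theorem exists_factor_open [ConnectedSpace S] {T T₀ : Over S} [GrpObj T] [GrpObj T₀] (hT : Red.IsTorus T)
    (j₀ : T₀ ⟶ T)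
    (hmax : ∀ (T' : Over S) [GrpObj T'] (j' : T' ⟶ T) [IsMonHom j'] [Mono j'] (r' : ℕ),
      Red.IsSplitTorusWith (Fin r' → ℤ) T' → ∃ g : T' ⟶ T₀, g ≫ j₀ = j')
    (U : S.Opens) {T' : Over (U : Scheme.{u})} [GrpObj T'] {r : ℕ} (hT' : Red.IsSplitTorusWith (Fin r → ℤ) T')
    (w : T' ⟶ Red.bc U.ι T) [IsMonHom w] : ∃ g : T' ⟶ Red.bc U.ι T₀, g ≫ (Over.pullback U.ι).map j₀ = w := by
  haveI : IsIntegral S := isIntegral_of_connected_normal hnorm
  rcases isEmpty_or_nonempty (U : Scheme.{u}) with hU | hU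
  · haveI : IsEmpty T'.left := Function.isEmpty T'.hom
    exact ⟨Over.homMk ((isInitialOfIsEmpty (X := T'.left)).to _) ((isInitialOfIsEmpty (X := T'.left)).hom_ext _ _),
      Over.OverMorphism.ext ((isInitialOfIsEmpty (X := T'.left)).hom_ext _ _)⟩
  obtain ⟨e, he⟩ := exists_iso_of_split hT'
  haveI := he
  have hmem : genericPoint S ∈ U := by
    obtain ⟨x⟩ := hU
    exact (genericPoint_specializes x.1).mem_open U.isOpen x.2
  have hr : Set.range (gen S) ⊆ Set.range U.ι := by
    rw [range_gen, Scheme.Opens.range_ι, Set.singleton_subset_iff]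
    exact hmem
  let l := IsOpenImmersion.lift U.ι (gen S) hr
  have hl : l ≫ U.ι = gen S := IsOpenImmersion.lift_fac _ _ _
  let D := Red.DS S (Fin r → ℤ)
  let c := fun X : Over S => ActBC.bcCompIso l U.ι X hl
  haveI : IsMonHom (c D).hom := ActBC.bcCompIso_isMonHom _ _ _
  haveI : IsMonHom (c T).hom := ActBC.bcCompIso_isMonHom _ _ _
  let w₁ : Red.bc U.ι D ⟶ Red.bc U.ι T := (bcDS U.ι (Fin r → ℤ)).hom ≫ e.inv ≫ w
  haveI : IsMonHom w₁ := inferInstanceAs (IsMonHom ((bcDS U.ι (Fin r → ℤ)).hom ≫ e.inv ≫ w))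
  haveI : IsMonHom (M := Red.bc l (Red.bc U.ι D)) (N := Red.bc l (Red.bc U.ι T)) ((Over.pullback l).map w₁) :=
    DiagRep.isMonHom_bc_map _ _
  let lamK : Red.bc (gen S) D ⟶ Red.bc (gen S) T := (c D).inv ≫ (Over.pullback l).map w₁ ≫ (c T).hom
  haveI : IsMonHom lamK := inferInstanceAs (IsMonHom ((c D).inv ≫ (Over.pullback l).map w₁ ≫ (c T).hom))
  have hTm := RedRank.isMultTypeFT_of_isTorus hT
  obtain ⟨lam, hlam, hlK⟩ := exists_extend hnorm hTm lamK
  haveI := hlam
  haveI : Nonempty S := ConnectedSpace.toNonempty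
  obtain ⟨r₁, v, hv, hvm, hu⟩ := exists_univ hTm
  haveI := hv; haveI := hvm
  obtain ⟨g₀, hg₀⟩ := hmax _ v r₁ (isSplit_DS _)
  obtain ⟨g₁, hg₁⟩ := hu r lam
  refine ⟨e.hom ≫ (bcDS U.ι (Fin r → ℤ)).inv ≫ (Over.pullback U.ι).map (dd S g₁ ≫ g₀), ?_⟩
  rw [Category.assoc, Category.assoc, ← Functor.map_comp, Category.assoc, hg₀, hg₁]
  haveI : AddGroup.FG (Fin r → ℤ) := Module.Finite.iff_addGroup_fg.1 inferInstance
  haveI : IsMonHom (M := Red.bc U.ι D) (N := Red.bc U.ι T) ((Over.pullback U.ι).map lam) := DiagRep.isMonHom_bc_map _ _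
  have key : (Over.pullback U.ι).map lam = w₁ := by
    refine eq_of_map_eq (DescHom.isMultTypeFT_bc (MultSubLib.isMultTypeFT_DS S _) U.ι)
      (DescHom.isMultTypeFT_bc hTm U.ι) _ w₁ (F := S.functionField) l ?_
    have h1 := ActBC.bcCompIso_hom_naturality l U.ι hl lam
    rw [hlK] at h1
    rw [← cancel_mono (c T).hom]
    refine h1.trans ?_
    simp [lamK, c, D]
  rw [key]
  simp [w₁]

/-- Over a normal base the greatest split subtorus contains every locally split subtorus. -/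
theorem exists_factor_locSplit [ConnectedSpace S] {T T₀ T₁ : Over S} [GrpObj T] [GrpObj T₀] [GrpObj T₁]
    (hT : Red.IsTorus T) (j₀ : T₀ ⟶ T) [Mono j₀]
    (hmax : ∀ (T' : Over S) [GrpObj T'] (j' : T' ⟶ T) [IsMonHom j'] [Mono j'] (r' : ℕ),
      Red.IsSplitTorusWith (Fin r' → ℤ) T' → ∃ g : T' ⟶ T₀, g ≫ j₀ = j')
    (j₁ : T₁ ⟶ T) [IsMonHom j₁] (hT₁ : LocSplit T₁) : ∃ g : T₁ ⟶ T₀, g ≫ j₀ = j₁ := by
  choose U hU r hr using hT₁
  have hloc : ∀ s, ∃ g : Red.bc (U s).ι T₁ ⟶ Red.bc (U s).ι T₀,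
      g ≫ (Over.pullback (U s).ι).map j₀ = (Over.pullback (U s).ι).map j₁ := fun s => by
    haveI : IsMonHom (M := Red.bc (U s).ι T₁) (N := Red.bc (U s).ι T) ((Over.pullback (U s).ι).map j₁) :=
      DiagRep.isMonHom_bc_map _ _
    exact exists_factor_open hnorm hT j₀ hmax (U s) (hr s) _
  choose g hg using hloc
  let P : ↥S → Over S := fun s => (Over.map (U s).ι).obj (Red.bc (U s).ι T₁)
  let π : ∀ s, P s ⟶ T₁ := fun s => prj (U s).ι T₁
  let q := Limits.Sigma.desc fun s => (π s).left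
  haveI : ∀ s, Etale (π s).left := fun s => inferInstanceAs (Etale (pullback.fst T₁.hom (U s).ι))
  haveI : Etale q := IsZariskiLocalAtSource.sigmaDesc fun s => inferInstance
  haveI : Surjective q := ⟨fun x => by
    obtain ⟨w, hw, -⟩ := Scheme.Pullback.exists_preimage_pullback (f := T₁.hom) (g := (U (T₁.hom x)).ι)
      x ⟨T₁.hom x, hU _⟩ rfl
    refine ⟨(Limits.Sigma.ι (fun s => (P s).left) (T₁.hom x)) w, ?_⟩
    rw [← Scheme.Hom.comp_apply, Sigma.ι_desc]
    exact hw⟩
  haveI : DescLib.Fpqc (Limits.Sigma.desc fun s => (π s).left) := MagnetLib.fpqc_of_fppf q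
  let β : ∀ s, P s ⟶ T₀ := fun s => ((Over.mapPullbackAdj (U s).ι).homEquiv _ _).symm (g s)
  have hβ : ∀ s, β s ≫ j₀ = π s ≫ j₁ := fun s => by
    show ((Over.mapPullbackAdj (U s).ι).homEquiv _ _).symm (g s) ≫ j₀ = _
    rw [← Adjunction.homEquiv_naturality_right_symm, hg, ← Category.id_comp ((Over.pullback (U s).ι).map j₁),
      Adjunction.homEquiv_naturality_right_symm]
    congr 1
  obtain ⟨v, hv⟩ := MultSubLib.hom_descend_family π β fun i i' W a b hab => by
    rw [← cancel_mono j₀, Category.assoc, Category.assoc, hβ, hβ, reassoc_of% hab]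
  refine ⟨v, ?_⟩
  haveI : Epi q := DescLib.Fpqc.epi_of q
  refine Over.OverMorphism.ext ((cancel_epi q).1 (Sigma.hom_ext _ _ fun s => ?_))
  have h := congrArg CommaMorphism.left (show π s ≫ v ≫ j₀ = π s ≫ j₁ by rw [← Category.assoc, hv, hβ])
  simpa [q] using h

end Groth.Agent.SplitSub
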