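import Groth.Agent.SplitSubLib.Etale
import Groth.Agent.TwConstLib.Etale
import Groth.Agent.S14189
import Groth.Agent.S9812
import Groth.Agent.AlgSpLib.ReducedSmooth
import Groth.Agent.MagnetLib.Descend
import Groth.Agent.MultSubLib.Family
import Groth.Agent.MultSubLib.Piece
import Groth.Agent.MultTorusLib.Cover

/-!
# Extending homomorphisms of groups of multiplicative type over a normal base from the generic point
-/

set_option autoImplicit false
set_option linter.style.haveILetI false
set_option linter.unusedSectionVars false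
set_option backward.isDefEq.respectTransparency false
set_option maxHeartbeats 1000000
set_option synthInstance.maxHeartbeats 400000

noncomputable section

universe u

open CategoryTheory CategoryTheory.Limits MonoidalCategory CartesianMonoidalCategory AlgebraicGeometry CoactBr
open scoped MonObj

attribute [-instance] CategoryTheory.Hom.commGroup

namespace Groth.Agent.SplitSub

open MultSubLib (chars dd)

attribute [local instance] CoactBr.braidedAlgSpecOf

variable {S : Scheme.{u}} [IsIntegral S]

/-- The inclusion of the generic point. -/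
abbrev gen (S : Scheme.{u}) [IsIntegral S] : Spec (S.presheaf.stalk (genericPoint S)) ⟶ S :=
  S.fromSpecStalk (genericPoint S)

/-- Morphisms from a flat scheme to a separated one are determined at the generic point. -/
theorem ext_generic {X Z : Over S} [Flat X.hom] [IsSeparated Z.hom] (a b : X ⟶ Z)
    (h : (Over.pullback (gen S)).map a = (Over.pullback (gen S)).map b) : a = b := by
  refine Over.OverMorphism.ext (Groth.Agent.S14189.ext_genericFibre X.hom Z.hom a.left b.left
    ((Over.w a).trans (Over.w b).symm) ?_)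
  have := congrArg (fun x => x.left ≫ pullback.fst Z.hom (gen S)) h
  simp only [Over.pullback_map_left, pullback.lift_fst] at this
  exact this

theorem range_gen : Set.range (gen S) = {genericPoint S} := by
  haveI : Subsingleton ↥(Spec (S.presheaf.stalk (genericPoint S))) :=
    inferInstanceAs (Subsingleton ↥(Spec (CommRingCat.of S.functionField)))
  refine Set.Subset.antisymm ?_ ?_
  · rintro _ ⟨t, rfl⟩
    rw [Subsingleton.elim t (IsLocalRing.closedPoint _)]
    exact Scheme.fromSpecStalk_closedPoint
  · rintro _ rfl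
    exact ⟨_, Scheme.fromSpecStalk_closedPoint⟩

/-- Etale pieces with one point over the generic point, diagonalising the group. -/
theorem exists_piece [IsLocallyNoetherian S]
    (hnorm : ∀ x : ↥S, IsDomain (S.presheaf.stalk x) ∧ IsIntegrallyClosed (S.presheaf.stalk x))
    {G : Over S} [GrpObj G] (hG : SGA3x.IsMultTypeFT G) (s : S) :
    ∃ (W : Scheme.{u}) (f : W ⟶ S) (y : W) (M : Type) (_ : AddCommGroup M) (_ : AddGroup.FG M)
      (e : Red.bc f G ≅ Red.DS W M) (K : Type u) (_ : Field K)
      (θ : Spec (CommRingCat.of K) ⟶ pullback f (gen S)),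
      Etale f ∧ f y = s ∧ IsMonHom e.hom ∧ IsIso θ := by
  obtain ⟨Y, f, y, M, iM, hM, e, hf, hy, he⟩ := exists_etale_split hG s
  haveI := hf; haveI := he
  haveI : IsLocallyNoetherian Y := LocallyOfFiniteType.isLocallyNoetherian f
  obtain ⟨U, hyU, -, hU⟩ := EquidimLib.exists_open_max_through y ⊤ trivial
  let gη := genericPoint S
  have hgη : ∀ t : S, t ⤳ gη → t = gη := fun t ht => ht.antisymm (genericPoint_specializes t) |>.eq
  have hub : CAlg2.IsGeomUnibranch (S.presheaf.stalk (f y)) := by
    haveI := (hnorm (f y)).1; haveI := (hnorm (f y)).2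
    exact Groth.Agent.S9812.result _
  have hmax : ∀ x ∈ U, f x = gη → closure {x} ∈ irreducibleComponents (Y : Type u) ∧ x ⤳ y := by
    intro x hx hfx
    obtain ⟨m, hm, hmx⟩ := DvrDomLib.exists_generic_specializes x
    have hfm : f m = gη := hgη _ (hfx ▸ hmx.map f.continuous)
    haveI : LocallyQuasiFinite f := DescLib.lqf_of_unramified f
    have hmx' : m = x := GeomIntLib.eq_of_specializes_of_same_image f hmx (hfm.trans hfx.symm)
    exact ⟨hmx' ▸ hm, hmx' ▸ hU m (hmx.mem_open U.isOpen hx) hm⟩
  let f' : (U : Scheme.{u}) ⟶ S := U.ι ≫ f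
  let e' : Red.bc f' G ≅ Red.DS (U : Scheme.{u}) M :=
    (ActBC.bcCompIso U.ι f G rfl).symm ≪≫ (Over.pullback U.ι).mapIso e ≪≫ bcDS U.ι M
  haveI : IsMonHom (ActBC.bcCompIso U.ι f G (rfl : U.ι ≫ f = f')).hom := ActBC.bcCompIso_isMonHom _ _ _
  haveI : IsMonHom (M := Red.bc U.ι (Red.bc f G)) (N := Red.bc U.ι (Red.DS Y M)) ((Over.pullback U.ι).map e.hom) :=
    DiagRep.isMonHom_bc_map _ _
  haveI he' : IsMonHom e'.hom :=
    inferInstanceAs (IsMonHom ((ActBC.bcCompIso U.ι f G rfl).inv ≫ (Over.pullback U.ι).map e.hom ≫ (bcDS U.ι M).hom))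
  let Z := pullback f' (gen S)
  haveI : IsReduced (Spec (S.presheaf.stalk (genericPoint S))) := inferInstance
  haveI : Smooth (pullback.snd f' (gen S)) := inferInstance
  haveI : IsReduced Z := AlgSpLib.isReduced_of_smooth (pullback.snd f' (gen S))
  haveI : IsPreimmersion (gen S) := inferInstance
  have hinj : Function.Injective (pullback.fst f' (gen S)) :=
    (pullback.fst f' (gen S)).isEmbedding.injective
  have hfst : ∀ z : Z, f (U.ι (pullback.fst f' (gen S) z)) = gη := fun z => by
    have h : f' (pullback.fst f' (gen S) z) ∈ Set.range (gen S) :=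
      ⟨pullback.snd f' (gen S) z, by rw [← Scheme.Hom.comp_apply, ← pullback.condition, Scheme.Hom.comp_apply]⟩
    rw [range_gen] at h
    exact h
  haveI : Subsingleton Z := ⟨fun z z' => hinj (U.ι.isOpenEmbedding.injective (by
    obtain ⟨h1, h1'⟩ := hmax _ (pullback.fst f' (gen S) z).2 (hfst z)
    obtain ⟨h2, h2'⟩ := hmax _ (pullback.fst f' (gen S) z').2 (hfst z')
    exact GeomIntLib.eq_of_components_etale f y hub h1 h1' h2 h2'))⟩
  obtain ⟨z⟩ : Nonempty Z := by
    obtain ⟨w, hw, hwe⟩ := Flat.generalizingMap f' (genericPoint_specializes (f' ⟨y, hyU⟩))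
    obtain ⟨z, -⟩ := Scheme.Pullback.exists_preimage_pullback (f := f') (g := gen S) w (IsLocalRing.closedPoint _)
      (hwe.trans Scheme.fromSpecStalk_closedPoint.symm)
    exact ⟨z⟩
  let K : Type u := (Z.residueField z : CommRingCat.{u})
  let θ : Spec (CommRingCat.of K) ⟶ Z := Z.fromSpecResidueField z
  haveI : Surjective θ := ⟨fun t => ⟨IsLocalRing.closedPoint K, Subsingleton.elim _ _⟩⟩
  haveI : IsClosedImmersion θ := by
    haveI : IsPreimmersion θ := inferInstanceAs (IsPreimmersion (Z.fromSpecResidueField z))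
    exact IsClosedImmersion.of_isPreimmersion θ (by rw [θ.surjective.range_eq]; exact isClosed_univ)
  haveI : IsIso θ := isIso_of_isClosedImmersion_of_surjective θ
  exact ⟨(U : Scheme.{u}), f', ⟨y, hyU⟩, M, iM, hM, e', K, inferInstance, θ, inferInstance,
    by rw [Scheme.Hom.comp_apply]; exact hy, he', ‹_›⟩

variable {N : Type} [AddCommGroup N] {T : Over S} [GrpObj T]

/-- The projection from the restriction. -/
def prj {W : Scheme.{u}} (f : W ⟶ S) (D : Over S) : (Over.map f).obj (Red.bc f D) ⟶ D :=
  Over.homMk (pullback.fst D.hom f) (by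
    show pullback.fst D.hom f ≫ D.hom = pullback.snd D.hom f ≫ f
    exact pullback.condition)

theorem map_left_fst {W' W : Scheme.{u}} (k : W' ⟶ W) {A B : Over W} (v : A ⟶ B) :
    ((Over.pullback k).map v).left ≫ pullback.fst B.hom k = pullback.fst A.hom k ≫ v.left := by
  exact pullback.lift_fst _ _ _

/-- A homomorphism on an etale piece agreeing with the given one at the generic point. -/
theorem exists_piece_hom {W : Scheme.{u}} (f : W ⟶ S) {M : Type} [AddCommGroup M] [AddGroup.FG M]
    (e : Red.bc f T ≅ Red.DS W M) [IsMonHom e.hom] {K : Type u} [Field K]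
    (θ : Spec (CommRingCat.of K) ⟶ pullback f (gen S)) [IsIso θ]
    (lamK : Red.bc (gen S) (Red.DS S N) ⟶ Red.bc (gen S) T) [IsMonHom lamK] :
    ∃ β : (Over.map f).obj (Red.bc f (Red.DS S N)) ⟶ T,
      (Over.pullback (gen S)).map β = (Over.pullback (gen S)).map (prj f (Red.DS S N)) ≫ lamK := by
  let D := Red.DS S N
  let k := θ ≫ pullback.fst f (gen S)
  let l := θ ≫ pullback.snd f (gen S)
  let d := k ≫ f
  have hl : l ≫ gen S = d := by simp only [l, d, k, Category.assoc, pullback.condition]
  let c1 := fun X : Over S => ActBC.bcCompIso k f X (rfl : k ≫ f = d)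
  let c2 := fun X : Over S => ActBC.bcCompIso l (gen S) X hl
  haveI : IsMonHom (c1 T).hom := ActBC.bcCompIso_isMonHom _ _ _
  haveI : IsMonHom (c1 D).hom := ActBC.bcCompIso_isMonHom _ _ _
  haveI : IsMonHom (c2 T).hom := ActBC.bcCompIso_isMonHom _ _ _
  haveI : IsMonHom (c2 D).hom := ActBC.bcCompIso_isMonHom _ _ _
  let ld : Red.bc d D ⟶ Red.bc d T := (c2 D).inv ≫ (Over.pullback l).map lamK ≫ (c2 T).hom
  haveI : IsMonHom (M := Red.bc l (Red.bc (gen S) D)) (N := Red.bc l (Red.bc (gen S) T)) ((Over.pullback l).map lamK) :=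
    DiagRep.isMonHom_bc_map _ _
  haveI : IsMonHom ld := inferInstanceAs (IsMonHom ((c2 D).inv ≫ (Over.pullback l).map lamK ≫ (c2 T).hom))
  let a : Red.bc k (Red.bc f D) ≅ Red.bc k (Red.DS W N) := (Over.pullback k).mapIso (bcDS f N)
  let b : Red.bc k (Red.bc f T) ≅ Red.bc k (Red.DS W M) := (Over.pullback k).mapIso e
  haveI : IsMonHom a.hom := DiagRep.isMonHom_bc_map k (bcDS f N).hom
  haveI : IsMonHom b.hom := DiagRep.isMonHom_bc_map k e.hom
  let vK : Red.DS (Spec (CommRingCat.of K)) N ⟶ Red.DS (Spec (CommRingCat.of K)) M :=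
    (bcDS k N).inv ≫ a.inv ≫ (c1 D).hom ≫ ld ≫ (c1 T).inv ≫ b.hom ≫ (bcDS k M).hom
  haveI : IsMonHom vK := inferInstanceAs (IsMonHom
    ((bcDS k N).inv ≫ a.inv ≫ (c1 D).hom ≫ ld ≫ (c1 T).inv ≫ b.hom ≫ (bcDS k M).hom))
  obtain ⟨ψ, hψ⟩ := exists_eq_dd vK
  let v : Red.bc f D ⟶ Red.bc f T := (bcDS f N).hom ≫ dd W ψ ≫ e.inv
  have hv : (Over.pullback k).map v = (c1 D).hom ≫ ld ≫ (c1 T).inv := by
    have h1 : (Over.pullback k).map (dd W ψ) = (bcDS k N).hom ≫ vK ≫ (bcDS k M).inv := by
      rw [hψ, ← bc_map_dd, Iso.hom_inv_id_assoc]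
    show (Over.pullback k).map ((bcDS f N).hom ≫ dd W ψ ≫ e.inv) = _
    rw [Functor.map_comp, Functor.map_comp, h1]
    simp [vK, a, b]
  refine ⟨Over.homMk (v.left ≫ pullback.fst T.hom f) ?_, ?_⟩
  · show (v.left ≫ pullback.fst T.hom f) ≫ T.hom = pullback.snd D.hom f ≫ f
    rw [Category.assoc, pullback.condition, ← Category.assoc]
    exact congrArg (· ≫ f) (Over.w v)
  refine Over.OverMorphism.ext (pullback.hom_ext ?_ ?_)
  swap
  · exact (Over.w _).trans (Over.w _).symm
  let P := (Over.map f).obj (Red.bc f D)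
  let p₁ : (Red.bc (gen S) P).left ⟶ pullback D.hom f := pullback.fst P.hom (gen S)
  let p₂ : (Red.bc (gen S) P).left ⟶ _ := pullback.snd P.hom (gen S)
  have hc : (p₁ ≫ pullback.snd D.hom f) ≫ f = p₂ ≫ gen S := by
    rw [Category.assoc]
    exact (pullback.condition : p₁ ≫ P.hom = _)
  let m : (Red.bc (gen S) P).left ⟶ Spec (CommRingCat.of K) :=
    pullback.lift (p₁ ≫ pullback.snd D.hom f) p₂ hc ≫ inv θ
  have hmk : m ≫ k = p₁ ≫ pullback.snd D.hom f := by simp [m, k]
  have hml : m ≫ l = p₂ := by simp [m, l]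
  let ν : (Red.bc (gen S) P).left ⟶ (Red.bc d D).left := pullback.lift (p₁ ≫ pullback.fst D.hom f) m (by
    rw [Category.assoc, pullback.condition, ← Category.assoc, ← hmk, Category.assoc])
  have hci1 : (c1 D).inv.left ≫ pullback.fst _ k ≫ pullback.fst D.hom f = pullback.fst D.hom d := by
    rw [← ActBC.bcCompIso_hom_left_fst k f D (rfl : k ≫ f = d), ← Category.assoc, ← Over.comp_left, Iso.inv_hom_id]
    exact Category.id_comp _
  have hci2 : (c2 D).inv.left ≫ pullback.fst _ l ≫ pullback.fst D.hom (gen S) = pullback.fst D.hom d := by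
    rw [← ActBC.bcCompIso_hom_left_fst l (gen S) D hl, ← Category.assoc, ← Over.comp_left, Iso.inv_hom_id]
    exact Category.id_comp _
  have hsnd1 : (c1 D).inv.left ≫ pullback.snd _ k = pullback.snd D.hom d := Over.w (c1 D).inv
  have hsnd2 : (c2 D).inv.left ≫ pullback.snd _ l = pullback.snd D.hom d := Over.w (c2 D).inv
  have hν1 : ν ≫ (c1 D).inv.left ≫ pullback.fst _ k = p₁ := by
    refine pullback.hom_ext ?_ ?_
    · simp only [Category.assoc, hci1, ν, pullback.lift_fst]
    · rw [Category.assoc, Category.assoc,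
        show pullback.fst (Red.bc f D).hom k ≫ pullback.snd D.hom f = pullback.snd _ k ≫ k from pullback.condition,
        reassoc_of% hsnd1, pullback.lift_snd_assoc, hmk]
  have hν2 : ν ≫ (c2 D).inv.left ≫ pullback.fst _ l = ((Over.pullback (gen S)).map (prj f D)).left := by
    refine pullback.hom_ext ?_ ?_
    · simp only [Category.assoc, hci2, ν, pullback.lift_fst, Over.pullback_map_left]
      rfl
    · rw [Category.assoc, Category.assoc,
        show pullback.fst (Red.bc (gen S) D).hom l ≫ pullback.snd D.hom (gen S) = pullback.snd _ l ≫ l from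
          pullback.condition,
        reassoc_of% hsnd2, pullback.lift_snd_assoc, hml]
      exact (Over.w ((Over.pullback (gen S)).map (prj f D))).symm
  have key : (c1 D).inv ≫ (Over.pullback k).map v ≫ (c1 T).hom = ld := by rw [hv]; simp
  have h1 := congrArg (fun x => x.left ≫ pullback.fst T.hom d) key
  simp only [ld, Over.comp_left, Category.assoc] at h1
  have e1 : ((Over.pullback k).map v).left ≫ (c1 T).hom.left ≫ pullback.fst T.hom d =
      pullback.fst _ k ≫ v.left ≫ pullback.fst T.hom f := by
    rw [show (c1 T).hom.left ≫ pullback.fst T.hom d = pullback.fst _ k ≫ pullback.fst T.hom f from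
      ActBC.bcCompIso_hom_left_fst k f T rfl]
    exact (reassoc_of% (map_left_fst k v)) _
  have e2 : ((Over.pullback l).map lamK).left ≫ (c2 T).hom.left ≫ pullback.fst T.hom d =
      pullback.fst _ l ≫ lamK.left ≫ pullback.fst T.hom (gen S) := by
    rw [show (c2 T).hom.left ≫ pullback.fst T.hom d = pullback.fst _ l ≫ pullback.fst T.hom (gen S) from
      ActBC.bcCompIso_hom_left_fst l (gen S) T hl]
    exact (reassoc_of% (map_left_fst l lamK)) _
  rw [e1, e2] at h1
  have key' := congrArg (ν ≫ ·) h1
  rw [reassoc_of% hν1, reassoc_of% hν2] at key'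
  show ((Over.pullback (gen S)).map _).left ≫ pullback.fst T.hom (gen S) =
    (((Over.pullback (gen S)).map (prj f D)).left ≫ lamK.left) ≫ pullback.fst T.hom (gen S)
  rw [map_left_fst]
  exact key'.trans (Category.assoc _ _ _).symm

/-- Homomorphisms into a group of multiplicative type extend from the generic point of a normal base. -/
theorem exists_extend [IsLocallyNoetherian S]
    (hnorm : ∀ x : ↥S, IsDomain (S.presheaf.stalk x) ∧ IsIntegrallyClosed (S.presheaf.stalk x))
    (hT : SGA3x.IsMultTypeFT T) (lamK : Red.bc (gen S) (Red.DS S N) ⟶ Red.bc (gen S) T) [IsMonHom lamK] :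
    ∃ lam : Red.DS S N ⟶ T, IsMonHom lam ∧ (Over.pullback (gen S)).map lam = lamK := by
  haveI := MultEq.isAffineHom_of_isMultTypeFT hT
  haveI : IsSeparated T.hom := inferInstance
  haveI : Flat (Red.DS S N).hom := MultSubLib.flat_DS' S N
  choose W f y M iM hM e K iK θ hf hy he hθ using exists_piece hnorm hT
  haveI : ∀ s, Etale (f s) := hf
  have hβ : ∀ s, ∃ β : (Over.map (f s)).obj (Red.bc (f s) (Red.DS S N)) ⟶ T,
      (Over.pullback (gen S)).map β = (Over.pullback (gen S)).map (prj (f s) (Red.DS S N)) ≫ lamK := fun s => by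
    haveI := he s; haveI := hθ s
    exact exists_piece_hom (f s) (e s) (θ s) lamK
  choose β hβ using hβ
  let U : ↥S → Over S := fun s => (Over.map (f s)).obj (Red.bc (f s) (Red.DS S N))
  let g : ∀ s, U s ⟶ Red.DS S N := fun s => prj (f s) (Red.DS S N)
  let q := Limits.Sigma.desc fun s => (g s).left
  haveI : ∀ s, Etale (g s).left := fun s => inferInstanceAs (Etale (pullback.fst (Red.DS S N).hom (f s)))
  haveI : Etale q := IsZariskiLocalAtSource.sigmaDesc fun s => inferInstance
  haveI : Surjective q := ⟨fun x => by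
    obtain ⟨w, hw, -⟩ := Scheme.Pullback.exists_preimage_pullback (f := (Red.DS S N).hom) (g := f ((Red.DS S N).hom x))
      x (y _) (hy _).symm
    refine ⟨(Limits.Sigma.ι (fun s => (U s).left) ((Red.DS S N).hom x)) w, ?_⟩
    rw [← Scheme.Hom.comp_apply, Sigma.ι_desc]
    exact hw⟩
  haveI : DescLib.Fpqc (Limits.Sigma.desc fun s => (g s).left) := MagnetLib.fpqc_of_fppf q
  obtain ⟨lam, hlam⟩ := MultSubLib.hom_descend_family g β fun i j W' a b hab => by
    let Q : Over S := Over.mk (pullback.fst (g i).left (g j).left ≫ (U i).hom)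
    haveI : Flat (U i).hom := inferInstanceAs (Flat (pullback.snd (Red.DS S N).hom (f i) ≫ f i))
    haveI : Flat Q.hom := inferInstanceAs (Flat (pullback.fst (g i).left (g j).left ≫ (U i).hom))
    let q₁ : Q ⟶ U i := Over.homMk (pullback.fst _ _) rfl
    let q₂ : Q ⟶ U j := Over.homMk (pullback.snd _ _) (by
      show pullback.snd (g i).left (g j).left ≫ (U j).hom = pullback.fst (g i).left (g j).left ≫ (U i).hom
      rw [← Over.w (g j), ← Over.w (g i), pullback.condition_assoc])
    have hq : q₁ ≫ β i = q₂ ≫ β j := by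
      refine ext_generic _ _ ?_
      rw [Functor.map_comp, Functor.map_comp, hβ, hβ, ← Functor.map_comp_assoc, ← Functor.map_comp_assoc,
        show q₁ ≫ g i = q₂ ≫ g j from Over.OverMorphism.ext pullback.condition]
    have hab' : a.left ≫ (g i).left = b.left ≫ (g j).left := congrArg CommaMorphism.left hab
    let c : W' ⟶ Q := Over.homMk (pullback.lift a.left b.left hab') (by
      show _ ≫ pullback.fst _ _ ≫ _ = _
      rw [pullback.lift_fst_assoc, Over.w])
    rw [show a = c ≫ q₁ from Over.OverMorphism.ext (pullback.lift_fst _ _ _).symm,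
      show b = c ≫ q₂ from Over.OverMorphism.ext (pullback.lift_snd _ _ _).symm, Category.assoc, Category.assoc, hq]
  have hmap : (Over.pullback (gen S)).map lam = lamK := by
    let s := genericPoint S
    let gK := (Over.pullback (gen S)).map (g s)
    haveI : Flat gK.left := MorphismProperty.overPullbackMap (P := @Flat) (gen S) (g s) inferInstance
    haveI : Surjective gK.left := ⟨fun x => by
      haveI : Subsingleton ↥(Spec (S.presheaf.stalk (genericPoint S))) :=
        inferInstanceAs (Subsingleton ↥(Spec (CommRingCat.of S.functionField)))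
      have sq : IsPullback (pullback.fst (U s).hom (gen S)) gK.left (g s).left
          (pullback.fst (Red.DS S N).hom (gen S)) := (Groth.Agent.MultTorus.isPullback_map_left (gen S) (g s)).flip.flip
      have hx : (Red.DS S N).hom (pullback.fst (Red.DS S N).hom (gen S) x) = s := by
        have h : (Red.DS S N).hom (pullback.fst (Red.DS S N).hom (gen S) x) ∈ Set.range (gen S) :=
          ⟨(pullback.snd (Red.DS S N).hom (gen S)) x, by rw [← Scheme.Hom.comp_apply, ← pullback.condition, Scheme.Hom.comp_apply]⟩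
        rw [range_gen] at h
        exact h
      obtain ⟨w, hw, -⟩ := Scheme.Pullback.exists_preimage_pullback (f := (Red.DS S N).hom) (g := f s)
        (pullback.fst (Red.DS S N).hom (gen S) x) (y s) (hx.trans (hy s).symm)
      obtain ⟨z, -, hz⟩ := Scheme.Pullback.exists_preimage_pullback (f := (g s).left)
        (g := pullback.fst (Red.DS S N).hom (gen S)) w x hw
      refine ⟨sq.isoPullback.inv z, ?_⟩
      refine Eq.trans ?_ hz
      exact (Scheme.Hom.comp_apply _ _ z).symm.trans (congrArg (fun h => h z) sq.isoPullback_inv_snd)⟩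
    haveI : Epi gK.left := Flat.epi_of_flat_of_surjective _
    haveI : Epi ((Over.forget _).map gK) := ‹Epi gK.left›
    haveI : Epi gK := Functor.epi_of_epi_map (Over.forget _) ‹_›
    rw [← cancel_epi gK, ← Functor.map_comp, hlam, hβ]
  refine ⟨lam, RedRank.isMonHom_of_mul _ fun Z a b => ?_, hmap⟩
  haveI : Flat (Red.DS S N ⊗ Red.DS S N).hom :=
    inferInstanceAs (Flat (pullback.fst (Red.DS S N).hom (Red.DS S N).hom ≫ (Red.DS S N).hom))
  have h : (fst (Red.DS S N) (Red.DS S N) * snd _ _) ≫ lam = (fst _ _ ≫ lam) * (snd _ _ ≫ lam) := by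
    refine ext_generic _ _ ?_
    simp only [Functor.map_comp, Functor.map_mul, hmap, MonObj.mul_comp]
  have := congrArg (lift a b ≫ ·) h
  simpa only [← Category.assoc, MonObj.comp_mul, lift_fst, lift_snd] using this

end Groth.Agent.SplitSub
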