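import Groth.Agent.SplitSubLib.Basic
import Groth.Agent.ImgTorusLib.Quot
import Groth.Agent.RedRankLib.Tori
import Groth.Agent.TorsTupleLib.Sigma
import Mathlib.LinearAlgebra.FreeModule.PID

/-!
# The universal homomorphism from a split torus

Over a connected base every homomorphism from a split torus into a group of multiplicative type of finite type factors
through one monomorphism from a split torus.
-/

set_option autoImplicit false
set_option linter.style.haveILetI false
set_option linter.unusedSectionVars false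
set_option backward.isDefEq.respectTransparency false
set_option maxHeartbeats 1000000
set_option synthInstance.maxHeartbeats 400000

noncomputable section

universe u

open CategoryTheory CategoryTheory.Limits MonoidalCategory CartesianMonoidalCategory AlgebraicGeometry CoactBr
open scoped MonObj

attribute [-instance] CategoryTheory.Hom.commGroup

namespace Groth.Agent.SplitSub

open MultSubLib (chars dd)

attribute [local instance] CoactBr.braidedAlgSpecOf

/-- A subgroup of `ℤ^r` other than the whole lies in the kernel of a congruence. -/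
theorem exists_congr {r : ℕ} (I : Submodule ℤ (Fin r → ℤ)) (h : I ≠ ⊤) :
    ∃ (c : Fin r → ℤ) (n : ℕ), 2 ≤ n ∧ (∀ v ∈ I, (n : ℤ) ∣ ∑ i, c i * v i) ∧ ∃ i, ¬ (n : ℤ) ∣ c i := by
  classical
  obtain ⟨k, snf⟩ := Submodule.smithNormalForm (Pi.basisFun ℤ (Fin r)) I
  have hj : ∃ j : Fin r, ∀ i, snf.f i = j → ¬ IsUnit (snf.a i) := by
    by_contra hcon
    simp only [not_exists, not_forall, not_not] at hcon
    refine h (eq_top_iff.2 ?_)
    rw [← snf.bM.span_eq]
    refine Submodule.span_le.2 ?_
    rintro _ ⟨j, rfl⟩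
    obtain ⟨i, hi, hu⟩ := hcon j
    have hmem : snf.a i • snf.bM j ∈ I := by
      rw [← hi, ← snf.snf i]
      exact (snf.bN i).2
    obtain ⟨w, hw⟩ := hu
    have := I.smul_mem (↑w⁻¹ : ℤ) hmem
    rwa [← hw, smul_smul, Units.inv_mul, one_smul] at this
  obtain ⟨j, hj⟩ := hj
  obtain ⟨n, hn, hdiv⟩ : ∃ n : ℕ, 2 ≤ n ∧ ∀ i, snf.f i = j → (n : ℤ) ∣ snf.a i := by
    by_cases hex : ∃ i, snf.f i = j
    · obtain ⟨i, hi⟩ := hex
      have hu := hj i hi
      have huniq : ∀ i', snf.f i' = j → i' = i := fun i' h' => snf.f.injective (h'.trans hi.symm)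
      by_cases h0 : snf.a i = 0
      · exact ⟨2, le_rfl, fun i' h' => by rw [huniq i' h', h0]; exact dvd_zero _⟩
      · refine ⟨(snf.a i).natAbs, ?_, fun i' h' => by rw [huniq i' h']; exact Int.natAbs_dvd.2 dvd_rfl⟩
        have : (snf.a i).natAbs ≠ 1 := fun h1 => hu (Int.isUnit_iff_natAbs_eq.2 h1)
        have := Int.natAbs_ne_zero.2 h0
        omega
    · exact ⟨2, le_rfl, fun i hi => absurd ⟨i, hi⟩ hex⟩
  let χ : (Fin r → ℤ) →ₗ[ℤ] ℤ := snf.bM.coord j
  let c : Fin r → ℤ := fun i => χ (Pi.single i 1)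
  have hχ : ∀ v : Fin r → ℤ, ∑ i, c i * v i = χ v := fun v => by
    conv_rhs => rw [pi_eq_sum_univ' v, map_sum]
    exact Finset.sum_congr rfl fun i _ => by rw [map_smul, smul_eq_mul, mul_comm]
  refine ⟨c, n, hn, fun v hv => ?_, ?_⟩
  · rw [hχ]
    obtain ⟨w, rfl⟩ : ∃ w : I, (w : Fin r → ℤ) = v := ⟨⟨v, hv⟩, rfl⟩
    show (n : ℤ) ∣ snf.bM.repr w j
    by_cases hex : ∃ i, snf.f i = j
    · obtain ⟨i, hi⟩ := hex
      rw [← hi, snf.repr_apply_embedding_eq_repr_smul (m := w), map_smul, Finsupp.smul_apply, smul_eq_mul]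
      exact (hdiv i hi).mul_right _
    · rw [snf.repr_eq_zero_of_notMem_range w (by rintro ⟨i, hi⟩; exact hex ⟨i, hi⟩)]
      exact dvd_zero _
  · by_contra hall
    simp only [not_exists, not_not] at hall
    have h1 : (n : ℤ) ∣ χ (snf.bM j) := by
      rw [← hχ]
      exact Finset.dvd_sum fun i _ => (hall i).mul_right _
    have h2 : χ (snf.bM j) = 1 := by simp [χ]
    rw [h2] at h1
    have := Int.le_of_dvd one_pos h1
    omega

variable {S : Scheme.{u}} {G : Over S} [GrpObj G] [PreconnectedSpace S] (C : Chart G) (hG : SGA3x.IsMultTypeFT G)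

instance isMonHom_one {A B : Over S} [GrpObj A] [GrpObj B] : IsMonHom (1 : A ⟶ B) :=
  RedRank.isMonHom_of_mul _ fun _ _ _ => by simp only [MonObj.comp_one, _root_.mul_one]

/-- The group of cocharacters, read at the point. -/
def cochar : AddSubgroup (C.M →+ ℤ) where
  carrier := {f | ∃ (v : Red.DS S ℤ ⟶ G) (_ : IsMonHom v), char C v = f.toMultiplicative}
  zero_mem' := ⟨1, inferInstance, char_eq_of_res C (by
    rw [res_one]; exact (dd_one (N := C.M) (N' := ℤ)).symm)⟩
  add_mem' := by
    rintro f g ⟨v, hv, e⟩ ⟨w, hw, e'⟩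
    haveI := isMonHom_mul hG v w
    exact ⟨v * w, this, by rw [char_mul, e, e']; rfl⟩
  neg_mem' := by
    rintro f ⟨v, hv, e⟩
    haveI := isMonHom_inv hG v
    haveI := isMonHom_mul hG v v⁻¹
    refine ⟨v⁻¹, ‹_›, ?_⟩
    have h : char C v * char C v⁻¹ = 1 := by
      rw [← char_mul]
      exact char_eq_of_res C (by rw [mul_inv_cancel, res_one, dd_one])
    rw [e] at h
    rw [eq_inv_of_mul_eq_one_right h]
    rfl

/-- The group of cocharacters is saturated. -/
theorem mem_cochar_of_nsmul {ρ : C.M →+ ℤ} {n : ℕ} (hn : 0 < n) (h : n • ρ ∈ cochar C hG) : ρ ∈ cochar C hG := by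
  obtain ⟨v, hv, e⟩ := h
  let pw : Multiplicative ℤ →* Multiplicative ℤ := powMonoidHom n
  have hpw : Function.Injective pw := by
    intro a b hab
    have h1 : n • Multiplicative.toAdd a = n • Multiplicative.toAdd b := congrArg Multiplicative.toAdd hab
    rw [nsmul_eq_mul, nsmul_eq_mul] at h1
    exact Multiplicative.toAdd.injective (mul_left_cancel₀ (Nat.cast_ne_zero.2 hn.ne') h1)
  haveI : AddGroup.FG ℤ := Module.Finite.iff_addGroup_fg.1 inferInstance
  obtain ⟨f1, f2, f3⟩ := ImgTorus.fppf_dd (S := S) pw hpw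
  haveI := f1; haveI := f2; haveI := f3
  let π : Multiplicative ℤ →* Multiplicative (ℤ ⧸ AddSubgroup.zmultiples (n : ℤ)) :=
    (QuotientAddGroup.mk' _).toMultiplicative
  have hkill : dd S π ≫ v = 1 := by
    refine eq_one_of_char C hG _ ?_
    rw [char_dd_comp, e]
    refine MonoidHom.ext fun m => ?_
    show Multiplicative.ofAdd (QuotientAddGroup.mk' _ ((n • ρ) (Multiplicative.toAdd m))) = 1
    rw [show QuotientAddGroup.mk' (AddSubgroup.zmultiples (n : ℤ)) ((n • ρ) (Multiplicative.toAdd m)) = 0 from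
      (QuotientAddGroup.eq_zero_iff _).2 (AddSubgroup.mem_zmultiples_iff.2 ⟨ρ (Multiplicative.toAdd m), by
        rw [smul_eq_mul, AddMonoidHom.smul_apply, nsmul_eq_mul, mul_comm]⟩)]
    rfl
  have hker : ∀ (Y : Over S) (h : Y ⟶ Red.DS S ℤ), h ≫ dd S pw = 1 → h ≫ v = 1 := by
    intro Y h hh
    have h1 : ∀ m, (chars h) (pw m) = 1 := fun m => by
      have := DFunLike.congr_fun (congrArg chars hh) m
      rwa [MultSubLib.chars_comp_dd, MultSubLib.chars_one] at this
    let χ : Multiplicative (ℤ ⧸ AddSubgroup.zmultiples (n : ℤ)) →* Γ(Y.left, ⊤) :=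
      AddMonoidHom.toMultiplicativeLeft (QuotientAddGroup.lift (AddSubgroup.zmultiples (n : ℤ))
        (AddMonoidHom.toMultiplicativeLeft.symm (chars h)) fun m hm => by
          obtain ⟨k, rfl⟩ := AddSubgroup.mem_zmultiples_iff.1 hm
          show Additive.ofMul (chars h (Multiplicative.ofAdd (k • (n : ℤ)))) = 0
          have := h1 (Multiplicative.ofAdd k)
          rw [show pw (Multiplicative.ofAdd k) = Multiplicative.ofAdd (k • (n : ℤ)) from
            congrArg Multiplicative.ofAdd (by rw [nsmul_eq_mul, smul_eq_mul, mul_comm]; rfl)] at this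
          rw [this]; rfl)
    have hχ : DSPtsLib.dsPt χ ≫ dd S π = h := by
      refine MultSubLib.chars_injective ?_
      rw [MultSubLib.chars_comp_dd, MultSubLib.chars_dsPt]
      exact MonoidHom.ext fun m => rfl
    rw [← hχ, Category.assoc, hkill, MonObj.comp_one]
  obtain ⟨v', hv'⟩ := MonoQuot.exists_desc_over (dd S pw) v fun Y a b hab => by
    have h2 := hker Y (a * b⁻¹) (by rw [MonObj.mul_comp, GrpObj.inv_comp, hab, mul_inv_cancel])
    rw [MonObj.mul_comp, GrpObj.inv_comp] at h2
    exact mul_inv_eq_one.1 h2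
  haveI := MonoQuot.epi_over (dd S pw)
  obtain ⟨t1, t2, t3⟩ := MonoQuot.fppf_tensor (dd S pw) (dd S pw)
  haveI := t1; haveI := t2; haveI := t3
  haveI := MonoQuot.epi_over (dd S pw ⊗ₘ dd S pw)
  haveI : IsMonHom v' :=
    { one_hom := by rw [← IsMonHom.one_hom (dd S pw), Category.assoc, hv']; exact IsMonHom.one_hom v
      mul_hom := by rw [← cancel_epi (dd S pw ⊗ₘ dd S pw), ← IsMonHom.mul_hom_assoc, tensorHom_comp_tensorHom_assoc,
        hv', IsMonHom.mul_hom v] }
  refine ⟨v', ‹_›, MonoidHom.ext fun m => hpw ?_⟩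
  have h3 : char C v = pw.comp (char C v') := by
    rw [← char_dd_comp]
    exact char_congr C hv'.symm
  have h4 := DFunLike.congr_fun h3 m
  rw [e] at h4
  exact h4.symm.trans rfl

/-- The inclusion of an axis. -/
def axis {r : ℕ} (i : Fin r) : Multiplicative ℤ →* Multiplicative (Fin r → ℤ) :=
  (AddMonoidHom.single (fun _ : Fin r => ℤ) i).toMultiplicative

/-- The projection to an axis. -/
def coord {r : ℕ} (i : Fin r) : Multiplicative (Fin r → ℤ) →* Multiplicative ℤ :=
  (Pi.evalAddMonoidHom (fun _ : Fin r => ℤ) i).toMultiplicative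

/-- Assembling cocharacters into a homomorphism out of a split torus. -/
theorem exists_hom {r : ℕ} (f : Fin r → cochar C hG) :
    ∃ (v : Red.DS S (Fin r → ℤ) ⟶ G) (_ : IsMonHom v),
      char C v = (AddMonoidHom.pi fun i => (f i).1).toMultiplicative := by
  classical
  choose w hw hwe using fun i => (f i).2
  have key : ∀ s : Finset (Fin r), ∃ (v : Red.DS S (Fin r → ℤ) ⟶ G) (_ : IsMonHom v),
      char C v = ∏ i ∈ s, (axis i).comp (f i).1.toMultiplicative := by
    intro s
    induction s using Finset.induction_on with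
    | empty => exact ⟨1, inferInstance, char_eq_of_res C (by rw [res_one, Finset.prod_empty, dd_one])⟩
    | @insert i s hi ih =>
      obtain ⟨v, hv, e⟩ := ih
      haveI := hw i
      haveI := isMonHom_mul hG (dd S (axis i) ≫ w i) v
      exact ⟨dd S (axis i) ≫ w i * v, this, by rw [char_mul, char_dd_comp, hwe i, e, Finset.prod_insert hi]⟩
  obtain ⟨v, hv, e⟩ := key Finset.univ
  refine ⟨v, hv, e.trans (MonoidHom.ext fun m => ?_)⟩
  rw [MonoidHom.finsetProd_apply]
  refine Multiplicative.toAdd.injective ?_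
  rw [toAdd_prod]
  ext j
  rw [Finset.sum_apply]
  simp [axis, Pi.single_apply]

/-- There is a split subtorus through which every homomorphism out of a split torus factors. -/
theorem exists_univ (hG : SGA3x.IsMultTypeFT G) [Nonempty S] :
    ∃ (r : ℕ) (v : Red.DS S (Fin r → ℤ) ⟶ G) (_ : IsMonHom v), Mono v ∧
      ∀ (r' : ℕ) (w : Red.DS S (Fin r' → ℤ) ⟶ G) [IsMonHom w],
        ∃ g : Multiplicative (Fin r → ℤ) →* Multiplicative (Fin r' → ℤ), dd S g ≫ v = w := by
  classical
  obtain ⟨C⟩ := nonempty_chart hG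
  haveI : Module.Finite ℤ C.M := Module.Finite.iff_addGroup_fg.2 inferInstance
  obtain ⟨k, g, hg⟩ := Module.Finite.exists_fin (R := ℤ) (M := C.M)
  let ev : (C.M →+ ℤ) →ₗ[ℤ] (Fin k → ℤ) :=
    { toFun := fun f i => f (g i)
      map_add' := fun _ _ => rfl
      map_smul' := fun _ _ => rfl }
  have hev : Function.Injective ev := by
    intro a b hab
    have : a.toIntLinearMap = b.toIntLinearMap := LinearMap.ext_on_range hg fun i => congrFun hab i
    exact AddMonoidHom.ext fun m => LinearMap.congr_fun this m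
  let W : Submodule ℤ (Fin k → ℤ) := (cochar C hG).toIntSubmodule.map ev
  let r := Module.finrank ℤ W
  let b : Module.Basis (Fin r) ℤ W := Module.finBasis ℤ W
  have hb : ∀ i, ∃ f : cochar C hG, ev f.1 = (b i : Fin k → ℤ) := fun i => by
    obtain ⟨f, hf, e⟩ := (b i).2
    exact ⟨⟨f, hf⟩, e⟩
  choose f hf using hb
  have hlin : ∀ c : Fin r → ℤ, ∑ i, c i • (f i).1 = 0 → c = 0 := by
    intro c hc
    funext i
    refine Fintype.linearIndependent_iff.1 b.linearIndependent c (Subtype.ext ?_) i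
    rw [AddSubmonoidClass.coe_finset_sum]
    have : ev (∑ i, c i • (f i).1) = ∑ i, c i • (b i : Fin k → ℤ) := by simp [map_sum, hf]
    rw [hc, map_zero] at this
    simpa using this.symm
  have hgen : ∀ ρ ∈ cochar C hG, ∃ d : Fin r → ℤ, ∑ i, d i • (f i).1 = ρ := by
    intro ρ hρ
    let w : W := ⟨ev ρ, ⟨ρ, hρ, rfl⟩⟩
    refine ⟨fun i => b.repr w i, hev ?_⟩
    have := congrArg (fun x : W => (x : Fin k → ℤ)) (b.sum_repr w)
    simp only [AddSubmonoidClass.coe_finset_sum, Submodule.coe_smul] at this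
    simpa [map_sum, hf] using this
  obtain ⟨v, hv, hve⟩ := exists_hom C hG f
  let φ : C.M →+ (Fin r → ℤ) := AddMonoidHom.pi fun i => (f i).1
  have hsurj : Function.Surjective φ := by
    have htop : LinearMap.range φ.toIntLinearMap = ⊤ := by
      by_contra hne
      obtain ⟨c, n, hn, hdiv, i₀, hi₀⟩ := exists_congr _ hne
      let τ : C.M →+ ℤ := ∑ i, c i • (f i).1
      have hτ : ∀ m, (n : ℤ) ∣ τ m := fun m => by
        have := hdiv (φ m) ⟨m, rfl⟩
        simpa [τ, φ, AddMonoidHom.finsetSum_apply] using this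
      have hn0 : (n : ℤ) ≠ 0 := by omega
      let ρ : C.M →+ ℤ := AddMonoidHom.mk' (fun m => τ m / n) fun a b => by
        rw [map_add]; exact Int.add_ediv_of_dvd_left (hτ a)
      have hρ : n • ρ = τ := AddMonoidHom.ext fun m => by
        rw [AddMonoidHom.smul_apply, nsmul_eq_mul]
        exact Int.mul_ediv_cancel' (hτ m)
      have hτm : τ ∈ cochar C hG := sum_mem fun i _ => zsmul_mem (f i).2 _
      obtain ⟨d, hd⟩ := hgen ρ (mem_cochar_of_nsmul C hG (by omega) (hρ ▸ hτm))
      have h0 : ∑ i, (c i - n * d i) • (f i).1 = 0 := by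
        simp only [sub_smul, Finset.sum_sub_distrib, mul_smul, ← Finset.smul_sum, hd]
        rw [natCast_zsmul, hρ, sub_self]
      exact hi₀ ⟨d i₀, sub_eq_zero.1 (congrFun (hlin _ h0) i₀)⟩
    exact LinearMap.range_eq_top.1 htop
  haveI : AddGroup.FG (Fin r → ℤ) := Module.Finite.iff_addGroup_fg.1 inferInstance
  refine ⟨r, v, hv, mono_of_char C hG v ?_, fun r' w _ => ?_⟩
  · rw [hve]
    intro x
    obtain ⟨m, hm⟩ := hsurj (Multiplicative.toAdd x)
    exact ⟨Multiplicative.ofAdd m, congrArg Multiplicative.ofAdd hm⟩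
  haveI : AddGroup.FG (Fin r' → ℤ) := Module.Finite.iff_addGroup_fg.1 inferInstance
  haveI : AddGroup.FG ℤ := Module.Finite.iff_addGroup_fg.1 inferInstance
  have hA : ∀ i, ∃ d : Fin r → ℤ, ∑ l, d l • (f l).1 =
      AddMonoidHom.toMultiplicative.symm ((coord i).comp (char C w)) := fun i =>
    hgen _ ⟨dd S (coord i) ≫ w, inferInstance,
      (char_dd_comp C _ _).trans (AddMonoidHom.toMultiplicative.apply_symm_apply _).symm⟩
  choose A hA using hA
  let g₀ : (Fin r → ℤ) →+ (Fin r' → ℤ) := AddMonoidHom.mk' (fun x i => ∑ l, A i l * x l) fun x y => by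
    funext i
    simp [mul_add, Finset.sum_add_distrib]
  refine ⟨g₀.toMultiplicative, char_injective C hG ?_⟩
  rw [char_dd_comp, hve]
  refine MonoidHom.ext fun m => Multiplicative.toAdd.injective (funext fun i => ?_)
  have := DFunLike.congr_fun (hA i) (Multiplicative.toAdd m)
  simpa [g₀, coord, AddMonoidHom.finsetSum_apply] using this

end Groth.Agent.SplitSub
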